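import Cfsg.Agent.Lib.Invol.CNtoCIT

/-!
The socle of a group with solvable centralisers and no solvable normal subgroup is simple, and the
conditions that make an automorphism in a CN-group trivial.
-/

set_option autoImplicit false
set_option linter.unusedSectionVars false
set_option linter.style.haveILetI false

namespace CfsgLib.Invol.CN

open Subgroup

universe u

variable {G : Type u} [Group G] [Finite G]

/-- Without odd core and 2-core there is no non-trivial solvable normal subgroup. -/
theorem eq_bot_of_solvable (ho : Cfsg.oddCore G = ⊥) (h2 : Cfsg.pCore 2 G = ⊥) {N : Subgroup G}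
    (hN : N.Normal) (hs : Group.IsSolvable N) : N = ⊥ := by
  by_contra hne
  obtain ⟨M, hMn, hM1, hMN, hmin⟩ := CfsgLib.Solvable.exists_minimal_normal_le hN hne
  haveI : Group.IsSolvable M := Group.isSolvable_of_isSolvable_injective (inclusion_injective hMN)
  obtain ⟨p, hp, hpM, -, -⟩ := CfsgLib.Solvable.exists_isPGroup_of_minimal_normal hM1 hmin
  haveI : Fact p.Prime := ⟨hp⟩
  rcases eq_or_ne p 2 with rfl | hp2
  · exact hM1 (le_bot_iff.1 (h2 ▸ CfsgLib.Solvable.le_pCore hMn hpM))
  · refine hM1 (le_bot_iff.1 (ho ▸ CfsgLib.Solvable.le_pPrimeCore hMn ?_))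
    obtain ⟨n, hn⟩ := IsPGroup.iff_card.1 hpM
    rw [hn]
    exact Nat.Coprime.pow_left n ((Nat.coprime_primes hp Nat.prime_two).2 hp2)

/-- With solvable centralisers and no solvable normal subgroup, a minimal normal subgroup is simple
and has trivial centraliser. -/
theorem exists_socle [Nontrivial G]
    (hsol : ∀ N : Subgroup G, N.Normal → Group.IsSolvable N → N = ⊥)
    (hcent : ∀ x : G, x ≠ 1 → Group.IsSolvable (centralizer ({x} : Set G))) :
    ∃ L : Subgroup G, L.Normal ∧ IsSimpleGroup L ∧ (∃ a b : L, a * b ≠ b * a) ∧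
      centralizer (L : Set G) = ⊥ := by
  obtain ⟨L, hLn, hL1, -, hmin⟩ :=
    CfsgLib.Solvable.exists_minimal_normal_le (inferInstance : (⊤ : Subgroup G).Normal) top_ne_bot
  haveI := hLn
  have hLns : ¬ Group.IsSolvable L := fun h => hL1 (hsol L hLn h)
  have hC : centralizer (L : Set G) = ⊥ := by
    by_contra hne
    obtain ⟨⟨c, hc⟩, hc'⟩ := ne_bot_iff_exists_ne_one.1 hne
    have hle : L ≤ centralizer ({c} : Set G) := fun a ha =>
      mem_centralizer_singleton_iff.2 (mem_centralizer_iff.1 hc a ha)
    haveI := hcent c fun e => hc' (Subtype.ext e)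
    exact hLns (Group.isSolvable_of_isSolvable_injective (inclusion_injective hle))
  haveI : Nontrivial L := L.nontrivial_iff_ne_bot.2 hL1
  refine ⟨L, hLn, ⟨fun K₀ hK₀ => ?_⟩, ?_, hC⟩
  swap
  · by_contra! h
    exact hLns (Group.isSolvable_of_comm h)
  by_contra! hK
  obtain ⟨K, hKn, hK1, hKK₀, hKmin⟩ := CfsgLib.Solvable.exists_minimal_normal_le hK₀ hK.1
  haveI := hKn
  have hKtop : K ≠ ⊤ := fun e => hK.2 (top_le_iff.1 (e ▸ hKK₀))
  -- the conjugates of `K`
  let c : G → Subgroup L := fun g => K.map (MulAut.conjNormal g : L ≃* L).toMonoidHom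
  have hcn : ∀ g, (c g).Normal := fun g => hKn.map _ (MulEquiv.surjective _)
  have hdisj : ∀ g, c g ≠ K → Disjoint K (c g) := by
    intro g hg
    rw [disjoint_iff]
    haveI := hcn g
    rcases hKmin (K ⊓ c g) inferInstance inf_le_left with h | h
    · exact h
    · refine absurd ?_ hg
      exact (eq_of_le_of_card_ge (inf_eq_left.1 h)
        (card_map_of_injective (MulEquiv.injective _)).le).symm
  -- `K` is solvable
  have hKsol : Group.IsSolvable K := by
    obtain ⟨g, hg⟩ : ∃ g, c g ≠ K := by
      by_contra! hall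
      have hn : (K.map L.subtype).Normal := ⟨fun a ha g => by
        obtain ⟨k, hk, rfl⟩ := ha
        exact ⟨MulAut.conjNormal g k, (hall g).le ⟨k, hk, rfl⟩, MulAut.conjNormal_apply g k⟩⟩
      rcases hmin _ hn (map_subtype_le K) with h | h
      · exact hK1 ((map_eq_bot_iff_of_injective _ L.subtype_injective).1 h)
      · refine hKtop (map_injective L.subtype_injective ?_)
        rw [h, ← MonoidHom.range_eq_map, range_subtype]
    obtain ⟨⟨k, hk⟩, hk'⟩ := ne_bot_iff_exists_ne_one.1 hK1
    haveI := hcent (k : G) fun e => hk' (Subtype.ext (Subtype.ext e))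
    have hle : ∀ y ∈ c g, (y : G) ∈ centralizer ({(k : G)} : Set G) := fun y hy => by
      refine mem_centralizer_singleton_iff.2 ?_
      have := commute_of_normal_of_disjoint K (c g) hKn (hcn g) (hdisj g hg) k y hk hy
      exact (congrArg Subtype.val this.eq).symm
    let f : ↥(c g) →* centralizer ({(k : G)} : Set G) :=
      (L.subtype.comp (c g).subtype).codRestrict _ fun y => hle y y.2
    haveI : Group.IsSolvable ↥(c g) :=
      Group.isSolvable_of_isSolvable_injective (f := f) fun a b e =>
        Subtype.ext (Subtype.ext (congrArg (fun t : centralizer ({(k : G)} : Set G) => (t : G)) e))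
    let e : ↥K ≃* ↥(c g) := K.equivMapOfInjective _ (MulEquiv.injective _)
    exact Group.isSolvable_of_isSolvable_injective (f := e.toMonoidHom) e.injective
  have hKc : IsMulCommutative K := CfsgLib.Solvable.isMulCommutative_of_minimal_normal hK1
    fun N hN hNK => hKmin N hN hNK
  obtain ⟨⟨z, hz⟩, hz'⟩ := ne_bot_iff_exists_ne_one.1 hK1
  -- `z` commutes with the normal closure of `K`, that is, with `L`
  have hzg : ∀ g : G, ∀ k ∈ K, Commute (z : G) (g * (k : L) * g⁻¹) := by
    intro g k hk
    have hmem : MulAut.conjNormal g k ∈ c g := ⟨k, hk, rfl⟩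
    have h : Commute z (MulAut.conjNormal g k) := by
      by_cases hg : c g = K
      · rw [hg] at hmem
        exact congrArg Subtype.val (hKc.is_comm.comm (⟨z, hz⟩ : K) ⟨_, hmem⟩)
      · exact commute_of_normal_of_disjoint K (c g) hKn (hcn g) (hdisj g hg) z _ hz hmem
    have := h.map L.subtype
    rwa [coe_subtype, MulAut.conjNormal_apply] at this
  have hNL : normalClosure ((K.map L.subtype : Subgroup G) : Set G) = L := by
    rcases hmin _ normalClosure_normal (normalClosure_le_normal (map_subtype_le K)) with h | h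
    · exfalso
      refine hK1 ((map_eq_bot_iff_of_injective _ L.subtype_injective).1 (le_bot_iff.1 ?_))
      rw [← h]
      exact fun a ha => subset_normalClosure ha
    · exact h
  have hzc : (z : G) ∈ centralizer (L : Set G) := by
    have h1 : L ≤ centralizer ({(z : G)} : Set G) := by
      refine hNL.ge.trans ?_
      rw [normalClosure, closure_le]
      intro a ha
      obtain ⟨b, ⟨k, hk, rfl⟩, hba⟩ := Group.mem_conjugatesOfSet_iff.1 ha
      obtain ⟨g, rfl⟩ := isConj_iff.1 hba
      exact mem_centralizer_singleton_iff.2 (hzg g k hk).eq.symm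
    exact mem_centralizer_iff.2 fun a ha => mem_centralizer_singleton_iff.1 (h1 ha)
  rw [hC, mem_bot] at hzc
  exact hz' (Subtype.ext (Subtype.ext hzc))

omit [Finite G] in
/-- Conjugation is injective on a non-abelian simple group. -/
theorem conj_injective [IsSimpleGroup G] (hna : ∃ a b : G, a * b ≠ b * a) :
    Function.Injective (MulAut.conj : G →* MulAut G) := by
  rw [injective_iff_map_eq_one]
  intro g hg
  have hmem : g ∈ center G := mem_center_iff.2 fun x => by
    have := DFunLike.congr_fun hg x
    rw [MulAut.conj_apply, MulAut.one_apply, mul_inv_eq_iff_eq_mul] at this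
    exact this.symm
  rcases (inferInstance : (center G).Normal).eq_bot_or_eq_top with h | h
  · rwa [h, mem_bot] at hmem
  · obtain ⟨a, b, hab⟩ := hna
    exact absurd (mem_center_iff.1 (h ▸ mem_top b) a) hab

/-- In a CN-group of automorphisms containing the inner ones, an automorphism fixing two
non-commuting elements of coprime orders is trivial. -/
theorem eq_one_of_fix_pair {A : Subgroup (MulAut G)} (hA : Cfsg.IsCNGroup A)
    (hinn : ∀ x, MulAut.conj x ∈ A) (hinj : Function.Injective (MulAut.conj : G →* MulAut G))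
    {β : MulAut G} (hβ : β ∈ A) {a b : G} (ha : β a = a) (hb : β b = b)
    (hab : (orderOf a).Coprime (orderOf b)) (hne : a * b ≠ b * a) : β = 1 := by
  by_contra hβ1
  have hcomm : ∀ x, β x = x → MulAut.conj x * β = β * MulAut.conj x := fun x hx =>
    MulEquiv.ext fun y => by
      simp only [MulAut.mul_apply, MulAut.conj_apply, map_mul, map_inv, hx]
  have hmem : ∀ x, β x = x → (⟨MulAut.conj x, hinn x⟩ : A) ∈
      centralizer ({(⟨β, hβ⟩ : A)} : Set A) := fun x hx =>
    mem_centralizer_singleton_iff.2 (Subtype.ext (hcomm x hx))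
  have hcop : (orderOf (⟨MulAut.conj a, hinn a⟩ : A)).Coprime
      (orderOf (⟨MulAut.conj b, hinn b⟩ : A)) := by
    rw [← orderOf_coe, ← orderOf_coe]
    exact (hab.coprime_dvd_left (orderOf_map_dvd _ a)).coprime_dvd_right (orderOf_map_dvd _ b)
  have h := CfsgLib.OddLocal.commute_of_mem_nilpotent
    (hA ⟨β, hβ⟩ fun e => hβ1 (congrArg Subtype.val e)) (hmem a ha) (hmem b hb) hcop
  refine hne (hinj ?_)
  rw [map_mul, map_mul]
  exact congrArg Subtype.val h

end CfsgLib.Invol.CN
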