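import Cfsg.Agent.Lib.Invol.CN.AutPSLTwo
import Cfsg.Agent.Lib.Suzuki.Out
import Cfsg.Agent.Lib.Suzuki.Martineau.Rel

/-!
A CN-group of automorphisms of `PSL(3, 4)` or of a Suzuki group containing the inner ones is inner.
-/

set_option autoImplicit false
set_option linter.unusedSectionVars false
set_option linter.style.haveILetI false
set_option maxHeartbeats 1000000

namespace CfsgLib.Invol.CN

open Matrix CfsgLib.KnownC

section Three

variable {F : Type*} [Field F]

theorem exists_smul_of_mk {n : ℕ} {A B : Matrix.SpecialLinearGroup (Fin n) F}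
    (h : (QuotientGroup.mk A : Matrix.ProjectiveSpecialLinearGroup (Fin n) F) = QuotientGroup.mk B) :
    ∃ r : F, A.1 = r • B.1 := by
  rw [eq_comm, QuotientGroup.eq] at h
  obtain ⟨r, -, hz⟩ := Matrix.SpecialLinearGroup.mem_center_iff.1 h
  refine ⟨r, ?_⟩
  have e : A.1 = B.1 * (B⁻¹ * A).1 := congrArg Subtype.val (mul_inv_cancel_left B A).symm
  rw [e, ← hz]
  ext i j
  simp [mul_comm]

/-- Images do not commute when an entry of one product is one and of the other zero. -/
theorem mk_not_commute_of_entry {n : ℕ} {A B : Matrix.SpecialLinearGroup (Fin n) F} (i j : Fin n)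
    (h1 : (A.1 * B.1) i j = 1) (h0 : (B.1 * A.1) i j = 0) :
    (QuotientGroup.mk A : Matrix.ProjectiveSpecialLinearGroup (Fin n) F) * QuotientGroup.mk B ≠
      QuotientGroup.mk B * QuotientGroup.mk A := by
  rw [← QuotientGroup.mk_mul, ← QuotientGroup.mk_mul]
  intro e
  obtain ⟨r, hr⟩ := exists_smul_of_mk e
  rw [Matrix.SpecialLinearGroup.coe_mul, Matrix.SpecialLinearGroup.coe_mul] at hr
  rw [hr, Matrix.smul_apply, h0, smul_zero] at h1
  exact zero_ne_one h1

theorem orderOf_mk_dvd_of_pow {n : ℕ} {A : Matrix.SpecialLinearGroup (Fin n) F} {k : ℕ}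
    (h : A.1 ^ k = 1) :
    orderOf (QuotientGroup.mk A : Matrix.ProjectiveSpecialLinearGroup (Fin n) F) ∣ k :=
  orderOf_dvd_of_pow_eq_one (by
    rw [← QuotientGroup.mk_pow,
      show A ^ k = 1 from Subtype.ext (by rw [Matrix.SpecialLinearGroup.coe_pow, h]; rfl),
      QuotientGroup.mk_one])

/-- An automorphism in a CN-group fixing, after a change of coordinates, a pair is trivial. -/
theorem eq_one_of_fix_pair_conj {G : Type*} [Group G] [Finite G] {A : Subgroup (MulAut G)}
    (hA : Cfsg.IsCNGroup A) (hinn : ∀ x, MulAut.conj x ∈ A)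
    (hinj : Function.Injective (MulAut.conj : G →* MulAut G)) {β δ γ : MulAut G} (hβ : β ∈ A)
    (e : β * δ = δ * γ) {a b : G} (ha : γ a = a) (hb : γ b = b) {k l : ℕ} (hkl : k.Coprime l)
    (hak : orderOf a ∣ k) (hbl : orderOf b ∣ l) (hne : a * b ≠ b * a) : β = 1 := by
  refine eq_one_of_fix_pair hA hinn hinj hβ (a := δ a) (b := δ b) ?_ ?_ ?_ ?_
  · rw [← MulAut.mul_apply, e, MulAut.mul_apply, ha]
  · rw [← MulAut.mul_apply, e, MulAut.mul_apply, hb]
  · rw [MulEquiv.orderOf_eq, MulEquiv.orderOf_eq]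
    exact (hkl.coprime_dvd_left hak).coprime_dvd_right hbl
  · intro h
    exact hne (δ.injective (by rw [map_mul, map_mul]; exact h))

variable [Fintype F] (h4 : Fintype.card F = 4)
include h4

theorem two_zero : (2 : F) = 0 := by
  have h := FiniteField.cast_card_eq_zero F
  rw [h4] at h
  exact pow_eq_zero_iff two_ne_zero |>.1 (by linear_combination h : (2 : F) ^ 2 = 0)

theorem cube_eq_one {x : F} (hx : x ≠ 0) : x ^ 3 = 1 := by
  have := FiniteField.pow_card_sub_one_eq_one x hx
  rwa [h4] at this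

theorem sigma_eq_sq {σ : F ≃+* F} (hσ : σ ≠ RingEquiv.refl F) (x : F) : σ x = x * x := by
  have h2 := two_zero h4
  have key : ∀ y : F, y = 0 ∨ y = 1 ∨ y * y + y + 1 = 0 := fun y => by
    by_cases h0 : y = 0
    · exact Or.inl h0
    · rcases mul_eq_zero.1 (show (y - 1) * (y * y + y + 1) = 0 by
        linear_combination cube_eq_one h4 h0) with h | h
      · exact Or.inr (Or.inl (sub_eq_zero.1 h))
      · exact Or.inr (Or.inr h)
  have two : ∀ y z : F, y * y + y + 1 = 0 → z * z + z + 1 = 0 → z = y ∨ z = y * y := fun y z hy hz => by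
    rcases mul_eq_zero.1 (show (z - y) * (z - y * y) = 0 by
      linear_combination hz + (-z + y - 1) * hy) with h | h
    · exact Or.inl (sub_eq_zero.1 h)
    · exact Or.inr (sub_eq_zero.1 h)
  rcases key x with rfl | rfl | hx
  · rw [map_zero, mul_zero]
  · rw [map_one, mul_one]
  · rcases two x (σ x) hx (by rw [← map_mul, ← map_add, ← map_one σ, ← map_add, hx, map_zero]) with h | h
    · refine absurd (RingEquiv.ext fun y => ?_) hσ
      show σ y = y
      rcases key y with rfl | rfl | hy
      · rw [map_zero]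
      · rw [map_one]
      · rcases two x y hx hy with rfl | rfl
        · exact h
        · rw [map_mul, h]
    · exact h

local notation "PSL3" => Matrix.ProjectiveSpecialLinearGroup (Fin 3) F

/-- The automorphisms of `PSL(3, 4)` in a CN-group containing the inner ones are inner. -/
theorem pslThree_inner {A : Subgroup (MulAut (Matrix.ProjectiveSpecialLinearGroup (Fin 3) F))}
    (hA : Cfsg.IsCNGroup A) (hinn : ∀ x, MulAut.conj x ∈ A)
    (hinj : Function.Injective (MulAut.conj : Matrix.ProjectiveSpecialLinearGroup (Fin 3) F →* _))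
    {β : MulAut (Matrix.ProjectiveSpecialLinearGroup (Fin 3) F)} (hβ : β ∈ A) :
    β ∈ (MulAut.conj : Matrix.ProjectiveSpecialLinearGroup (Fin 3) F →* _).range := by
  classical
  have h2 := two_zero h4
  haveI : Finite (Matrix.ProjectiveSpecialLinearGroup (Fin 3) F) := inferInstance
  let D : (d : F) → d ≠ 0 → GL (Fin 3) F := fun d hd =>
    GeneralLinearGroup.mkOfDetNeZero !![d, 0, 0; 0, 1, 0; 0, 0, 1] (by simp [det_fin_three, hd])
  have hDv : ∀ d hd, (D d hd).1 = !![d, 0, 0; 0, 1, 0; 0, 0, 1] := fun d hd => rfl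
  -- permutation matrices and a pair in a Levi subgroup
  let pa : Matrix.SpecialLinearGroup (Fin 3) F :=
    ⟨!![0, 0, 1; 1, 0, 0; 0, 1, 0], by simp [det_fin_three]⟩
  let pb : Matrix.SpecialLinearGroup (Fin 3) F :=
    ⟨!![1, 0, 0; 0, 0, 1; 0, 1, 0], by simp [det_fin_three]; linear_combination -h2⟩
  let la : Matrix.SpecialLinearGroup (Fin 3) F :=
    ⟨!![1, 0, 0; 0, 0, 1; 0, 1, 1], by simp [det_fin_three]; linear_combination -h2⟩
  let lb : Matrix.SpecialLinearGroup (Fin 3) F :=
    ⟨!![1, 0, 0; 0, 1, 1; 0, 0, 1], by simp [det_fin_three]⟩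
  have opa : orderOf (QuotientGroup.mk pa : PSL3) ∣ 3 := orderOf_mk_dvd_of_pow (by
    rw [pow_succ, pow_two]
    ext i j
    fin_cases i <;> fin_cases j <;> simp [pa, mul_apply, Fin.sum_univ_three])
  have opb : orderOf (QuotientGroup.mk pb : PSL3) ∣ 2 := orderOf_mk_dvd_of_pow (by
    rw [pow_two]
    ext i j
    fin_cases i <;> fin_cases j <;> simp [pb, mul_apply, Fin.sum_univ_three])
  have ola : orderOf (QuotientGroup.mk la : PSL3) ∣ 3 := orderOf_mk_dvd_of_pow (by
    rw [pow_succ, pow_two]
    ext i j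
    fin_cases i <;> fin_cases j <;>
      simp [la, mul_apply, Fin.sum_univ_three, one_add_one_eq_two, h2])
  have olb : orderOf (QuotientGroup.mk lb : PSL3) ∣ 2 := orderOf_mk_dvd_of_pow (by
    rw [pow_two]
    ext i j
    fin_cases i <;> fin_cases j <;>
      simp [lb, mul_apply, Fin.sum_univ_three, one_add_one_eq_two, h2])
  have npab : (QuotientGroup.mk pa : PSL3) * QuotientGroup.mk pb ≠
      QuotientGroup.mk pb * QuotientGroup.mk pa :=
    mk_not_commute_of_entry 0 1 (by simp [pa, pb, mul_apply, Fin.sum_univ_three])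
      (by simp [pa, pb, mul_apply, Fin.sum_univ_three])
  have nlab : (QuotientGroup.mk la : PSL3) * QuotientGroup.mk lb ≠
      QuotientGroup.mk lb * QuotientGroup.mk la :=
    mk_not_commute_of_entry 1 2 (by simp [la, lb, mul_apply, Fin.sum_univ_three])
      (by simp [la, lb, mul_apply, Fin.sum_univ_three, one_add_one_eq_two, h2])
  have h32 : Nat.Coprime 3 2 := by norm_num
  have sfix : ∀ σ : F ≃+* F, semiAut 1 σ (QuotientGroup.mk pa) = (QuotientGroup.mk pa : PSL3) ∧
      semiAut 1 σ (QuotientGroup.mk pb) = (QuotientGroup.mk pb : PSL3) := fun σ =>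
    ⟨semiAut_fix 1 σ pa 1 (by ext i j; fin_cases i <;> fin_cases j <;> simp [pa]),
      semiAut_fix 1 σ pb 1 (by ext i j; fin_cases i <;> fin_cases j <;> simp [pb])⟩
  have ifix : itAut (QuotientGroup.mk pa) = (QuotientGroup.mk pa : PSL3) ∧
      itAut (QuotientGroup.mk pb) = (QuotientGroup.mk pb : PSL3) := by
    have hi : ∀ s : Matrix.SpecialLinearGroup (Fin 3) F, s.1.transpose * s.1 = 1 →
        itAut (QuotientGroup.mk s) = (QuotientGroup.mk s : PSL3) := fun s hs => by
      refine congrArg QuotientGroup.mk (Subtype.ext ?_)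
      show (s⁻¹).1.transpose = s.1
      rw [inv_eq_of_mul_eq_one_left (show Matrix.SpecialLinearGroup.transpose s * s = 1 from
        Subtype.ext hs)]
      exact transpose_transpose _
    constructor <;> refine hi _ ?_ <;> ext i j <;> fin_cases i <;> fin_cases j <;>
      simp [pa, pb, mul_apply, Fin.sum_univ_three]
  -- diagonal automorphisms
  have hdiag : ∀ d hd, d ≠ 1 → semiAut (D d hd) (RingEquiv.refl F) ∉ A := by
    intro d hd hd1 hm
    have h1 := eq_one_of_fix_pair hA hinn hinj hm
      (semiAut_fix (D d hd) _ la 1 (by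
        simp only [hDv]; ext i j; fin_cases i <;> fin_cases j <;> simp [la, mul_apply, Fin.sum_univ_three]))
      (semiAut_fix (D d hd) _ lb 1 (by
        simp only [hDv]; ext i j; fin_cases i <;> fin_cases j <;> simp [lb, mul_apply, Fin.sum_univ_three]))
      ((h32.coprime_dvd_left ola).coprime_dvd_right olb) nlab
    rw [semiAut_eq_one_iff (by norm_num)] at h1
    have h' := congrArg Units.val
      (Subgroup.mem_center_iff.1 h1.2 (Matrix.SpecialLinearGroup.toGL pa))
    have e : pa.1 * (D d hd).1 = (D d hd).1 * pa.1 := h'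
    have e10 := congrFun (congrFun e 1) 0
    simp [hDv, pa, mul_apply, Fin.sum_univ_three] at e10
    exact hd1 e10
  have hred : ∀ (g : GL (Fin 3) F) (τ : MulAut PSL3) (σ : F ≃+* F),
      semiAut g σ * τ ∈ A → ∃ d hd x, semiAut g σ * τ = MulAut.conj x * (semiAut (D d hd) σ * τ) ∧
        semiAut (D d hd) σ * τ ∈ A := by
    intro g τ σ hm
    have hd : g.1.det ≠ 0 := (Matrix.GeneralLinearGroup.det g).ne_zero
    obtain ⟨x, hx⟩ := exists_conj_mul_semiAut (by norm_num) g (D g.1.det hd) σ (c := 1) one_ne_zero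
      (by simp only [hDv]; simp [det_fin_three])
    refine ⟨_, hd, x, by rw [hx, mul_assoc], ?_⟩
    have := mul_mem (inv_mem (hinn x)) hm
    rwa [hx, mul_assoc, inv_mul_cancel_left] at this
  have conv : ∀ {d : F} (hd : d ≠ 0), d ≠ 1 → d * d * d = 1 := fun {d} hd _ => by
    linear_combination cube_eq_one h4 hd
  rcases mulAut_psl_cases (by norm_num : 2 ≤ 3) β with ⟨g, σ, rfl⟩ | ⟨-, g, σ, rfl⟩
  · rw [← mul_one (semiAut g σ)] at hβ ⊢
    obtain ⟨d, hd, x, hx, hm⟩ := hred g 1 σ hβ
    rw [hx]
    rw [mul_one] at hm ⊢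
    suffices h : semiAut (D d hd) σ = 1 from ⟨x, by rw [h, mul_one]⟩
    by_cases hd1 : d = 1
    · have e1 : D d hd = 1 := Units.ext (by simp only [hDv, hd1, Units.val_one, one_fin_three])
      rw [e1] at hm ⊢
      exact eq_one_of_fix_pair hA hinn hinj hm (sfix σ).1 (sfix σ).2
        ((h32.coprime_dvd_left opa).coprime_dvd_right opb) npab
    · exfalso
      by_cases hσ : σ = RingEquiv.refl F
      · subst hσ; exact hdiag d hd hd1 hm
      · have hx0 : d⁻¹ ≠ 0 := inv_ne_zero hd
        have h1 := eq_one_of_fix_pair_conj hA hinn hinj hm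
          (δ := semiAut (D d⁻¹ hx0) (RingEquiv.refl F)) (γ := semiAut 1 σ) (by
            rw [semiAut_mul, semiAut_mul, map_one, mul_one]
            refine congrArg₂ semiAut (Units.ext ?_) (RingEquiv.ext fun _ => rfl)
            show (D d hd).1 * (D d⁻¹ hx0).1.map σ = (D d⁻¹ hx0).1
            simp only [hDv]
            ext i j
            fin_cases i <;> fin_cases j <;> simp [mul_apply, Fin.sum_univ_three]
            rw [sigma_eq_sq h4 hσ]
            field_simp)
          (sfix σ).1 (sfix σ).2 h32 opa opb npab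
        exact hσ ((semiAut_eq_one_iff (by norm_num) _ _).1 h1).1
  · obtain ⟨d, hd, x, hx, hm⟩ := hred g itAut σ hβ
    rw [hx]
    suffices h : semiAut (D d hd) σ * itAut = 1 from ⟨x, by rw [h, mul_one]⟩
    exfalso
    have hnot : semiAut (D d hd) σ * itAut ≠ 1 := fun h => by
      rw [mul_eq_one_iff_eq_inv, itAut_inv] at h
      exact itAut_ne_semiAut le_rfl _ _ h.symm
    by_cases hd1 : d = 1
    · have e1 : D d hd = 1 := Units.ext (by simp only [hDv, hd1, Units.val_one, one_fin_three])
      refine hnot (eq_one_of_fix_pair hA hinn hinj hm ?_ ?_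
        ((h32.coprime_dvd_left opa).coprime_dvd_right opb) npab)
      · rw [MulAut.mul_apply, ifix.1, e1, (sfix σ).1]
      · rw [MulAut.mul_apply, ifix.2, e1, (sfix σ).2]
    by_cases hσ : σ = RingEquiv.refl F
    · subst hσ
      have hy0 : d * d ≠ 0 := mul_ne_zero hd hd
      refine hnot (eq_one_of_fix_pair_conj hA hinn hinj hm
        (δ := semiAut (D (d * d) hy0) (RingEquiv.refl F)) (γ := itAut) ?_ ifix.1 ifix.2 h32 opa opb
        npab)
      rw [mul_assoc, itAut_mul_semiAut, ← mul_assoc, semiAut_mul]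
      refine congrArg (· * itAut) (congrArg₂ semiAut (Units.ext ?_) (RingEquiv.ext fun _ => rfl))
      show (D d hd).1 * ((D (d * d) hy0)⁻¹).1.transpose.map id = (D (d * d) hy0).1
      rw [Units.inv_eq_of_mul_eq_one_right (u := D (d * d) hy0)
        (a := !![d, 0, 0; 0, 1, 0; 0, 0, 1]) (by
          simp only [hDv]; ext i j
          fin_cases i <;> fin_cases j <;> simp [mul_apply, Fin.sum_univ_three]
          exact conv hd hd1)]
      simp only [hDv]
      ext i j
      fin_cases i <;> fin_cases j <;> simp [mul_apply, Fin.sum_univ_three]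
    · have hm2 := mul_mem hm hm
      have hy0 : d * d ≠ 0 := mul_ne_zero hd hd
      refine hdiag (d * d) hy0 (fun e => hd1 ?_) ?_
      · have h := conv hd hd1
        rwa [e, one_mul] at h
      · convert hm2 using 1
        rw [mul_assoc, ← mul_assoc itAut, itAut_mul_semiAut, ← mul_assoc, ← mul_assoc, mul_assoc,
          itAut_mul_self, mul_one, semiAut_mul]
        refine congrArg₂ semiAut (Units.ext ?_) (RingEquiv.ext fun y => ?_)
        · show (D (d * d) hy0).1 = (D d hd).1 * ((D d hd)⁻¹).1.transpose.map σ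
          rw [Units.inv_eq_of_mul_eq_one_right (u := D d hd)
            (a := !![d * d, 0, 0; 0, 1, 0; 0, 0, 1]) (by
              simp only [hDv]; ext i j
              fin_cases i <;> fin_cases j <;> simp [mul_apply, Fin.sum_univ_three]
              rw [← mul_assoc]
              exact conv hd hd1)]
          simp only [hDv]
          ext i j
          fin_cases i <;> fin_cases j <;> simp [mul_apply, Fin.sum_univ_three]
          rw [sigma_eq_sq h4 hσ d]
          exact Or.inl (by linear_combination (-d) * conv hd hd1)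
        · show y = σ (σ y)
          rw [sigma_eq_sq h4 hσ, sigma_eq_sq h4 hσ]
          rcases eq_or_ne y 0 with rfl | hy
          · simp
          · linear_combination (-y) * cube_eq_one h4 hy

end Three

section Suzuki

open CfsgLib.Suzuki

variable {F : Type*} [Field F] [CharP F 2] [Fintype F] {m : ℕ}

/-- The automorphisms of a Suzuki group in a CN-group containing the inner ones are inner. -/
theorem suzuki_inner (hm : 1 ≤ m) (hF : Fintype.card F = 2 ^ (2 * m + 1))
    {A : Subgroup (MulAut (Cfsg.Sz F m))} (hA : Cfsg.IsCNGroup A) (hinn : ∀ x, MulAut.conj x ∈ A)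
    (hinj : Function.Injective (MulAut.conj : Cfsg.Sz F m →* MulAut (Cfsg.Sz F m)))
    {β : MulAut (Cfsg.Sz F m)} (hβ : β ∈ A) :
    β ∈ (MulAut.conj : Cfsg.Sz F m →* MulAut (Cfsg.Sz F m)).range := by
  obtain ⟨g, σ, rfl⟩ := exists_conj_mul_field hm hF β
  have hf := mul_mem (inv_mem (hinn g)) hβ
  rw [inv_mul_cancel_left] at hf
  set h := thSq_of_card hF
  have hx : fieldHom F m σ (Martineau.xG h) = Martineau.xG h := by
    rw [Martineau.xG, map_mul, fieldHom_tG, fieldHom_wG, map_zero, map_one]
  have hu : fieldHom F m σ (tG h 1 0) = tG h 1 0 := by rw [fieldHom_tG, map_zero, map_one]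
  have ou : orderOf (tG h (1 : F) 0) ∣ 4 := orderOf_dvd_of_pow_eq_one (by
    simp only [pow_succ, pow_zero, one_mul]
    rw [tG_sq, map_one, one_mul, mul_assoc, tG_sq, map_one, one_mul, Martineau.z_sq])
  have hne : tG h 1 0 * Martineau.xG h ≠ Martineau.xG h * tG h 1 0 := by
    intro e
    have hz : tG h (1 : F) 0 * tG h 1 0 = tG h 0 1 := by rw [tG_sq, map_one, one_mul]
    have hzu : tG h (1 : F) 0 * tG h 0 1 = tG h 0 1 * tG h 1 0 := by rw [← hz, mul_assoc]
    have hw : tG h (1 : F) 0 * wG h = wG h * tG h 1 0 := by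
      refine mul_left_cancel (a := tG h (0 : F) 1) ?_
      rw [← mul_assoc, ← hzu, mul_assoc, ← mul_assoc (tG h (0 : F) 1)]
      exact e
    have hzw : tG h (0 : F) 1 * wG h = wG h * tG h 0 1 := by
      rw [← hz, mul_assoc, hw, ← mul_assoc, hw, mul_assoc]
    have h1 := Martineau.wzw_one h
    rw [← hzw, mul_assoc, wG_sq, mul_one, hw, mul_inv_cancel_right] at h1
    have := congrFun (congrFun (congrArg (fun q : Cfsg.Sz F m => q.1.1) h1) 0) 0
    simp [tSL, tMat, wSL] at this
  exact ⟨g, by rw [eq_one_of_fix_pair hA hinn hinj hf hu hx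
    (((show Nat.Coprime 4 5 by norm_num).coprime_dvd_left ou).coprime_dvd_right
      (orderOf_dvd_of_pow_eq_one (Martineau.xG_pow_five h))) hne, mul_one]⟩

end Suzuki

end CfsgLib.Invol.CN
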