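import Cfsg.Agent.Lib.Invol.CN.Socle
import Cfsg.Agent.Lib.KnownC.AutPSLMain

/-!
A CN-group of automorphisms of `PSL(2, q)` containing the inner ones: it is inner for a prime `q` or
`q` even, and has the inner ones with index at most two in general.
-/

set_option autoImplicit false
set_option linter.unusedSectionVars false
set_option linter.style.haveILetI false

namespace CfsgLib.Invol.CN

open Matrix CfsgLib.KnownC
open scoped MatrixGroups

section General

variable {n : ℕ} {F : Type*} [Field F]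


/-- A scalar matrix is central. -/
theorem mem_center_of_smul {z : Matrix.SpecialLinearGroup (Fin n) F} {c : F} (h : z.1 = c • 1) :
    z ∈ Subgroup.center (Matrix.SpecialLinearGroup (Fin n) F) :=
  Subgroup.mem_center_iff.2 fun y => Subtype.ext (by
    show y.1 * z.1 = z.1 * y.1
    rw [h, mul_smul_one, smul_one_mul])

/-- A scalar matrix gives the identity. -/
theorem mk_one_of_smul {z : Matrix.SpecialLinearGroup (Fin n) F} {c : F} (h : z.1 = c • 1) :
    (QuotientGroup.mk z : Matrix.ProjectiveSpecialLinearGroup (Fin n) F) = 1 :=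
  (QuotientGroup.eq_one_iff z).2 (mem_center_of_smul h)

/-- A semilinear automorphism fixing a matrix up to a scalar fixes its image. -/
theorem semiAut_fix (h : GL (Fin n) F) (σ : F ≃+* F) (a : Matrix.SpecialLinearGroup (Fin n) F) (c : F)
    (e : h.1 * a.1.map σ = c • (a.1 * h.1)) :
    semiAut h σ (QuotientGroup.mk a) = (QuotientGroup.mk a : Matrix.ProjectiveSpecialLinearGroup (Fin n) F) := by
  rw [semiAut_mk, eq_comm, QuotientGroup.eq]
  refine mem_center_of_smul (c := c) ?_
  rw [Matrix.SpecialLinearGroup.coe_mul, slConj_coe, slField_coe, e, smul_mul_assoc, mul_assoc a.1,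
    Units.mul_inv, mul_one, mul_smul_comm, ← Matrix.SpecialLinearGroup.coe_mul, inv_mul_cancel,
    Matrix.SpecialLinearGroup.coe_one]

/-- Modulo inner automorphisms only the determinant class of the matrix counts. -/
theorem exists_conj_mul_semiAut (hn : 2 ≤ n) (g h : GL (Fin n) F) (σ : F ≃+* F) {c : F}
    (hc : c ≠ 0) (hdet : g.1.det = c ^ n * h.1.det) :
    ∃ x : Matrix.ProjectiveSpecialLinearGroup (Fin n) F, semiAut g σ = MulAut.conj x * semiAut h σ := by
  have hh : h.1.det ≠ 0 := by
    intro e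
    have := congrArg Matrix.det h.mul_inv
    rw [det_mul, e, zero_mul, det_one] at this
    exact zero_ne_one this
  let s : Matrix.SpecialLinearGroup (Fin n) F := ⟨c⁻¹ • (g.1 * (h⁻¹).1), by
    have h1 : h.1.det * (h⁻¹).1.det = 1 := by rw [← det_mul, Units.mul_inv, det_one]
    rw [det_smul, det_mul, hdet, Fintype.card_fin, mul_assoc (c ^ n), h1, mul_one, inv_pow,
      inv_mul_cancel₀ (pow_ne_zero n hc)]⟩
  refine ⟨QuotientGroup.mk s, ?_⟩
  rw [conj_eq_semiAut, semiAut_mul]
  refine (semiAut_eq_iff hn _ _ _ _).2 ⟨rfl, ?_⟩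
  have e1 : GeneralLinearGroup.map ((RingEquiv.refl F) : F →+* F) h = h :=
    Units.ext (Matrix.ext fun i j => rfl)
  rw [e1, Subgroup.mem_center_iff]
  intro k
  have e2 : g.1 = c • (Matrix.SpecialLinearGroup.toGL s * h).1 := by
    show g.1 = c • ((c⁻¹ • (g.1 * (h⁻¹).1)) * h.1)
    rw [smul_mul_assoc, smul_smul, mul_inv_cancel₀ hc, one_smul, mul_assoc, Units.inv_mul, mul_one]
  refine Units.ext ?_
  show k.1 * (((Matrix.SpecialLinearGroup.toGL s * h)⁻¹).1 * g.1) =
    ((Matrix.SpecialLinearGroup.toGL s * h)⁻¹).1 * g.1 * k.1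
  rw [e2, mul_smul_comm, Units.inv_mul, mul_smul_one, smul_one_mul]

/-- The only ring automorphism of a field of prime order is the identity. -/
theorem ringEquiv_eq_refl [Fintype F] (hp : (Fintype.card F).Prime) (σ : F ≃+* F) :
    σ = RingEquiv.refl F := by
  haveI : Fact (Fintype.card F).Prime := ⟨hp⟩
  let e := ZMod.ringEquivOfPrime F hp rfl
  refine RingEquiv.ext fun x => ?_
  obtain ⟨k, rfl⟩ := e.surjective x
  have : (σ : F →+* F).comp e.toRingHom = e.toRingHom := RingHom.ext_zmod _ _
  exact DFunLike.congr_fun this k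

end General

section Two

variable {F : Type*} [Field F]


/-- Equal images in `PSL(2)` differ by a sign. -/
theorem eq_or_eq_neg_of_mk {A B : SL(2, F)} (h : (QuotientGroup.mk A : (Matrix.ProjectiveSpecialLinearGroup (Fin 2) F)) = QuotientGroup.mk B) :
    A.1 = B.1 ∨ A.1 = -B.1 := by
  rw [eq_comm, QuotientGroup.eq] at h
  obtain ⟨r, hr, hz⟩ := Matrix.SpecialLinearGroup.mem_center_iff.1 h
  have e : A.1 = B.1 * (B⁻¹ * A).1 := congrArg Subtype.val (mul_inv_cancel_left B A).symm
  rw [Fintype.card_fin] at hr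
  rcases sq_eq_one_iff.1 hr with rfl | rfl
  · left; rw [e, ← hz]; simp
  · right; rw [e, ← hz]; ext i j; simp

/-- Non-commuting images. -/
theorem mk_not_commute {A B : SL(2, F)} (h1 : A.1 * B.1 ≠ B.1 * A.1)
    (h2 : A.1 * B.1 ≠ -(B.1 * A.1)) :
    (QuotientGroup.mk A : (Matrix.ProjectiveSpecialLinearGroup (Fin 2) F)) * QuotientGroup.mk B ≠ QuotientGroup.mk B * QuotientGroup.mk A := by
  rw [← QuotientGroup.mk_mul, ← QuotientGroup.mk_mul]
  intro e
  rcases eq_or_eq_neg_of_mk e with h | h
  · exact h1 h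
  · exact h2 h

/-- An element whose `k`-th power is scalar has order dividing `k`. -/
theorem orderOf_mk_dvd {A : SL(2, F)} {k : ℕ} {c : F} (h : A.1 ^ k = c • 1) :
    orderOf (QuotientGroup.mk A : (Matrix.ProjectiveSpecialLinearGroup (Fin 2) F)) ∣ k :=
  orderOf_dvd_of_pow_eq_one (by
    rw [← QuotientGroup.mk_pow]; exact mk_one_of_smul (by rw [Matrix.SpecialLinearGroup.coe_pow]; exact h))

theorem pow_upper (k : ℕ) :
    (!![1, 1; 0, 1] : Matrix (Fin 2) (Fin 2) F) ^ k = !![1, (k : F); 0, 1] := by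
  induction k with
  | zero => simp [one_fin_two]
  | succ k ih => rw [pow_succ, ih]; simp [add_comm]

/-- A square class lemma: the product of two non-squares is a square. -/
theorem isSquare_mul_of_not [Fintype F] {a b : F} (ha : ¬ IsSquare a) (hb : ¬ IsSquare b) :
    IsSquare (a * b) := by
  have ha0 : a ≠ 0 := fun e => ha (e ▸ IsSquare.zero)
  have hb0 : b ≠ 0 := fun e => hb (e ▸ IsSquare.zero)
  have h2 : ringChar F ≠ 2 := fun e => ha (FiniteField.isSquare_of_char_two e a)
  have hp : ∀ c : F, c ≠ 0 → ¬ IsSquare c → c ^ (Fintype.card F / 2) = -1 := fun c hc hns =>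
    (FiniteField.pow_dichotomy h2 hc).resolve_left fun e =>
      hns ((FiniteField.isSquare_iff h2 hc).2 e)
  rw [FiniteField.isSquare_iff h2 (mul_ne_zero ha0 hb0), mul_pow, hp a ha0 ha, hp b hb0 hb,
    neg_one_mul, neg_neg]

variable [Fintype F] {A : Subgroup (MulAut (Matrix.ProjectiveSpecialLinearGroup (Fin 2) F))} (hA : Cfsg.IsCNGroup A)
  (hinn : ∀ x, MulAut.conj x ∈ A) (hinj : Function.Injective (MulAut.conj : (Matrix.ProjectiveSpecialLinearGroup (Fin 2) F) →* MulAut (Matrix.ProjectiveSpecialLinearGroup (Fin 2) F)))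
include hA hinn hinj

/-- Field automorphisms in the group are trivial. -/
theorem semiAut_field_eq_one {σ : F ≃+* F} (h : semiAut 1 σ ∈ A) :
    semiAut (1 : GL (Fin 2) F) σ = 1 := by
  by_cases h2 : (2 : F) = 0
  · let a : SL(2, F) := ⟨!![1, 1; 0, 1], by simp [det_fin_two_of]⟩
    let b : SL(2, F) := ⟨!![0, 1; 1, 1], by rw [det_fin_two_of]; linear_combination -h2⟩
    have ha : a.1 ^ 2 = (1 : F) • 1 := by
      show !![1, 1; 0, 1] ^ 2 = _
      rw [pow_upper, one_smul, one_fin_two]; simp [h2]
    have hb : b.1 ^ 3 = (1 : F) • 1 := by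
      show !![0, 1; 1, 1] ^ 3 = _
      rw [pow_succ, pow_two, one_smul, one_fin_two]
      ext i j
      fin_cases i <;> fin_cases j <;> simp [one_add_one_eq_two, h2]
    refine eq_one_of_fix_pair hA hinn hinj h
      (semiAut_fix 1 σ a 1 (by ext i j; fin_cases i <;> fin_cases j <;> simp [a]))
      (semiAut_fix 1 σ b 1 (by ext i j; fin_cases i <;> fin_cases j <;> simp [b]))
      (((show Nat.Coprime 2 3 by norm_num).coprime_dvd_left (orderOf_mk_dvd ha)).coprime_dvd_right
        (orderOf_mk_dvd hb)) (mk_not_commute (fun e => ?_) fun e => ?_) <;>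
    · have := congrFun (congrFun e 0) 0
      simp [a, b] at this
  · obtain ⟨p, hp⟩ := CharP.exists F
    have hpp : p.Prime := (CharP.char_is_prime F p)
    have hp2 : p ≠ 2 := by
      rintro rfl
      exact h2 (by exact_mod_cast CharP.cast_eq_zero F 2)
    let a : SL(2, F) := ⟨!![1, 1; 0, 1], by simp [det_fin_two_of]⟩
    let b : SL(2, F) := ⟨!![0, 1; -1, 0], by simp [det_fin_two_of]⟩
    have ha : a.1 ^ p = (1 : F) • 1 := by
      show !![1, 1; 0, 1] ^ p = _
      rw [pow_upper, one_smul, one_fin_two, CharP.cast_eq_zero]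
    have hb : b.1 ^ 2 = (-1 : F) • 1 := by
      show !![0, 1; -1, 0] ^ 2 = _
      rw [pow_two, one_fin_two]; simp
    refine eq_one_of_fix_pair hA hinn hinj h
      (semiAut_fix 1 σ a 1 (by ext i j; fin_cases i <;> fin_cases j <;> simp [a]))
      (semiAut_fix 1 σ b 1 (by ext i j; fin_cases i <;> fin_cases j <;> simp [b]))
      ((((Nat.coprime_primes hpp Nat.prime_two).2 hp2).coprime_dvd_left
        (orderOf_mk_dvd ha)).coprime_dvd_right (orderOf_mk_dvd hb))
      (mk_not_commute (fun e => ?_) fun e => ?_)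
    · have := congrFun (congrFun e 0) 0
      simp [a, b] at this
    · have := congrFun (congrFun e 1) 0
      simp [a, b] at this
      exact h2 (by linear_combination -this)

/-- An element of square determinant is inner in the group. -/
theorem inner_of_isSquare {g : GL (Fin 2) F} {σ : F ≃+* F} (hd : IsSquare g.1.det)
    (hg : semiAut g σ ∈ A) : semiAut g σ ∈ (MulAut.conj : (Matrix.ProjectiveSpecialLinearGroup (Fin 2) F) →* MulAut (Matrix.ProjectiveSpecialLinearGroup (Fin 2) F)).range := by
  obtain ⟨c, hc⟩ := hd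
  have hg0 : g.1.det ≠ 0 := (Matrix.GeneralLinearGroup.det g).ne_zero
  obtain ⟨x, hx⟩ := exists_conj_mul_semiAut le_rfl g 1 σ (c := c)
    (fun e => hg0 (by rw [hc, e, mul_zero])) (by rw [hc, Units.val_one, det_one, mul_one, pow_two])
  have h1 : semiAut (1 : GL (Fin 2) F) σ ∈ A := by
    have := mul_mem (inv_mem (hinn x)) hg
    rwa [hx, inv_mul_cancel_left] at this
  exact ⟨x, by rw [hx, semiAut_field_eq_one hA hinn hinj h1, mul_one]⟩

/-- The inner automorphisms have index at most two. -/
theorem pslTwo_index {β γ : MulAut (Matrix.ProjectiveSpecialLinearGroup (Fin 2) F)} (hβ : β ∈ A) (hγ : γ ∈ A)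
    (hβi : β ∉ (MulAut.conj : (Matrix.ProjectiveSpecialLinearGroup (Fin 2) F) →* MulAut (Matrix.ProjectiveSpecialLinearGroup (Fin 2) F)).range)
    (hγi : γ ∉ (MulAut.conj : (Matrix.ProjectiveSpecialLinearGroup (Fin 2) F) →* MulAut (Matrix.ProjectiveSpecialLinearGroup (Fin 2) F)).range) :
    β * γ ∈ (MulAut.conj : (Matrix.ProjectiveSpecialLinearGroup (Fin 2) F) →* MulAut (Matrix.ProjectiveSpecialLinearGroup (Fin 2) F)).range := by
  rcases mulAut_psl_cases (le_refl 2) β with ⟨g, σ, rfl⟩ | ⟨h3, -⟩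
  swap
  · omega
  rcases mulAut_psl_cases (le_refl 2) γ with ⟨k, τ, rfl⟩ | ⟨h3, -⟩
  swap
  · omega
  have hg : ¬ IsSquare g.1.det := fun h => hβi (inner_of_isSquare hA hinn hinj h hβ)
  have hk : ¬ IsSquare k.1.det := fun h => hγi (inner_of_isSquare hA hinn hinj h hγ)
  have hk' : ¬ IsSquare (σ k.1.det) := fun h => hk (by
    simpa using h.map σ.symm)
  have hm := mul_mem hβ hγ
  rw [semiAut_mul] at hm ⊢
  refine inner_of_isSquare hA hinn hinj ?_ hm
  rw [Units.val_mul, det_mul]
  have e : (GeneralLinearGroup.map (σ : F →+* F) k).1.det = σ k.1.det :=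
    ((σ : F →+* F).map_det k.1).symm
  rw [e]
  exact isSquare_mul_of_not hg hk'

/-- In odd prime order the group is inner. -/
theorem pslTwo_prime (hp : (Fintype.card F).Prime) (h7 : 5 ≤ Fintype.card F) {β : MulAut (Matrix.ProjectiveSpecialLinearGroup (Fin 2) F)}
    (hβ : β ∈ A) : β ∈ (MulAut.conj : (Matrix.ProjectiveSpecialLinearGroup (Fin 2) F) →* MulAut (Matrix.ProjectiveSpecialLinearGroup (Fin 2) F)).range := by
  rcases mulAut_psl_cases (le_refl 2) β with ⟨g, σ, rfl⟩ | ⟨h3, -⟩
  swap
  · omega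
  by_cases hd : IsSquare g.1.det
  · exact inner_of_isSquare hA hinn hinj hd hβ
  exfalso
  obtain rfl := ringEquiv_eq_refl hp σ
  set p := Fintype.card F with hpdef
  haveI := Fact.mk hp
  haveI : CharP F p := by
    obtain ⟨q, hq⟩ := CharP.exists F
    obtain ⟨k, hqp, hk⟩ := FiniteField.card F q
    rw [hpdef, hk] at hp
    rw [hp.eq_one_of_pow, pow_one] at hk
    exact hpdef ▸ hk ▸ hq
  have hpodd : p % 2 = 1 := Nat.odd_iff.1 (hp.odd_of_ne_two (by omega))
  have hne : ∀ k : ℕ, ¬ p ∣ k → (k : F) ≠ 0 := fun k hk e => hk ((CharP.cast_eq_zero_iff F p k).1 e)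
  have hle : ∀ k : ℕ, 0 < k → k < p → (k : F) ≠ 0 := fun k h0 hk =>
    hne k fun e => absurd (Nat.le_of_dvd h0 e) (by omega)
  have h2 : (2 : F) ≠ 0 := by exact_mod_cast hle 2 (by omega) (by omega)
  have hchar : ringChar F ≠ 2 := by rw [ringChar.eq F p]; omega
  -- it suffices to fix a pair with some representative of the non-square class
  suffices key : ∃ g₀ : GL (Fin 2) F, ¬ IsSquare g₀.1.det ∧ ∃ a b : (Matrix.ProjectiveSpecialLinearGroup (Fin 2) F),
      semiAut g₀ (RingEquiv.refl F) a = a ∧ semiAut g₀ (RingEquiv.refl F) b = b ∧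
      Odd (orderOf a) ∧ orderOf b ∣ 2 ∧ a * b ≠ b * a by
    obtain ⟨g₀, hg₀, a, b, ha, hb, hao, hbo, hab⟩ := key
    have hg0 : g₀.1.det ≠ 0 := fun e => hg₀ (e ▸ IsSquare.zero)
    have hns : ¬ IsSquare (g₀.1.det)⁻¹ := fun h => hg₀ (by simpa using h.inv)
    obtain ⟨c, hc⟩ := isSquare_mul_of_not hd hns
    have hgne : g.1.det ≠ 0 := fun e => hd (e ▸ IsSquare.zero)
    have hc0 : c ≠ 0 := fun e => mul_ne_zero hgne (inv_ne_zero hg0) (by rw [hc, e, mul_zero])
    obtain ⟨x, hx⟩ := exists_conj_mul_semiAut le_rfl g g₀ (RingEquiv.refl F) hc0 (by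
      rw [pow_two, ← hc, inv_mul_cancel_right₀ hg0])
    have hm := mul_mem (inv_mem (hinn x)) hβ
    rw [hx, inv_mul_cancel_left] at hm
    have h1 := eq_one_of_fix_pair hA hinn hinj hm ha hb
      ((Nat.coprime_two_right.2 hao).coprime_dvd_right hbo) hab
    rw [semiAut_eq_one_iff le_rfl] at h1
    let t : GL (Fin 2) F := GeneralLinearGroup.mkOfDetNeZero !![1, 1; 0, 1] (by simp [det_fin_two_of])
    have htv : t.1 = !![1, 1; 0, 1] := rfl
    have h1' : t.1 * g₀.1 = g₀.1 * t.1 := congrArg Units.val (Subgroup.mem_center_iff.1 h1.2 t)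
    have e01 := congrFun (congrFun h1' 0) 0
    have e01' := congrFun (congrFun h1' 0) 1
    simp [htv, mul_apply, Fin.sum_univ_two] at e01 e01'
    refine hg₀ ⟨g₀.1 0 0, ?_⟩
    rw [det_fin_two]
    linear_combination (g₀.1 0 0) * e01' - (g₀.1 0 1) * e01
  rcases (show p % 4 = 1 ∨ p % 4 = 3 by omega) with h4 | h4
  · -- the non-split torus
    have hm1 : IsSquare (-1 : F) := FiniteField.isSquare_neg_one_iff.2 (by omega)
    obtain ⟨ν, hν⟩ := FiniteField.exists_nonsquare hchar
    have hν0 : ν ≠ 0 := fun e => hν (e ▸ IsSquare.zero)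
    have hν1 : 1 - ν ≠ 0 := fun e => hν ⟨1, by linear_combination -e⟩
    have hνm : 1 + ν ≠ 0 := fun e => hν (by
      rwa [show ν = -1 by linear_combination e])
    obtain ⟨r, s, hrs⟩ : ∃ r s : F, ν * s ^ 2 - r ^ 2 = 1 := by
      obtain ⟨s, r, h⟩ := FiniteField.exists_root_sum_quadratic
        (f := Polynomial.C ν * Polynomial.X ^ 2) (g := -Polynomial.X ^ 2 - Polynomial.C 1)
        (Polynomial.degree_C_mul_X_pow 2 hν0) (by
          rw [show -Polynomial.X ^ 2 - Polynomial.C (1 : F) =
            -(Polynomial.X ^ 2 + Polynomial.C 1) by ring, Polynomial.degree_neg,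
            Polynomial.degree_X_pow_add_C two_pos]; rfl) hpodd
      exact ⟨r, s, by simp at h; linear_combination h⟩
    set u : F := (1 + ν) / (1 - ν) with hu
    set v : F := 2 / (1 - ν) with hv
    have huv : u * u - v * v * ν = 1 := by rw [hu, hv]; field_simp; ring
    have hu0 : u ≠ 0 := div_ne_zero hνm hν1
    have hv0 : v ≠ 0 := div_ne_zero h2 hν1
    clear_value u v
    let g₀ : GL (Fin 2) F := GeneralLinearGroup.mkOfDetNeZero !![0, ν; 1, 0]
      (by simp [det_fin_two_of, hν0])
    have hgv : g₀.1 = !![0, ν; 1, 0] := rfl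
    let a : SL(2, F) := ⟨!![u, v * ν; v, u], by rw [det_fin_two_of]; linear_combination huv⟩
    let b : SL(2, F) := ⟨!![r, -(s * ν); s, -r], by rw [det_fin_two_of]; linear_combination hrs⟩
    refine ⟨g₀, fun hs => hν ?_, QuotientGroup.mk (a * a), QuotientGroup.mk b,
      semiAut_fix g₀ _ (a * a) 1 ?_, semiAut_fix g₀ _ b (-1) ?_, ?_, ?_, ?_⟩
    · rw [hgv, det_fin_two_of, zero_mul, zero_sub, mul_one] at hs
      simpa using hm1.mul hs
    · rw [hgv, Matrix.SpecialLinearGroup.coe_mul]
      ext i j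
      fin_cases i <;> fin_cases j <;> simp [a] <;> ring
    · rw [hgv]
      ext i j
      fin_cases i <;> fin_cases j <;> simp [b] <;> ring
    · -- the Frobenius inverts `a`
      have hg2 : g₀.1 * g₀.1 = ν • 1 := by rw [hgv, one_fin_two]; simp
      have hgp : g₀.1 ^ p = -g₀.1 := by
        rw [show p = 2 * (p / 2) + 1 by omega, pow_succ, pow_mul, pow_two, hg2, _root_.smul_pow,
          one_pow, smul_one_mul]
        rcases FiniteField.pow_dichotomy hchar hν0 with h | h
        · exact absurd ((FiniteField.isSquare_iff hchar hν0).2 h) hν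
        · rw [h, neg_one_smul]
      have haq : a.1 ^ p = u • 1 + v • -g₀.1 := by
        have e : a.1 = u • 1 + v • g₀.1 := by rw [hgv, one_fin_two]; simp [a]
        rw [e, add_pow_char_of_commute p ((Commute.one_left _).smul_left u |>.smul_right v),
          _root_.smul_pow, _root_.smul_pow, one_pow, hgp, FiniteField.pow_card,
          FiniteField.pow_card]
      have h1 : a.1 ^ (p + 1) = (1 : F) • 1 := by
        rw [pow_succ, haq, hgv, one_smul, one_fin_two]
        ext i j
        fin_cases i <;> fin_cases j <;> simp [a] <;> first | linear_combination huv | ring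
      refine Odd.of_dvd_nat (Nat.odd_iff.2 (show (p + 1) / 2 % 2 = 1 by omega))
        (orderOf_mk_dvd (c := 1) ?_)
      rw [Matrix.SpecialLinearGroup.coe_mul, ← pow_two, ← pow_mul,
        show 2 * ((p + 1) / 2) = p + 1 by omega, h1]
    · refine orderOf_mk_dvd (c := -1) ?_
      rw [pow_two, one_fin_two]
      ext i j
      fin_cases i <;> fin_cases j <;> simp [b] <;> first | linear_combination -hrs | ring
    · have hB : 2 * (u * v) ≠ 0 := mul_ne_zero h2 (mul_ne_zero hu0 hv0)
      have hAne : u * u + v * v * ν ≠ 0 := fun e => hν (by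
        have : ν = -1 * (u / v * (u / v)) := by
          field_simp
          linear_combination e
        rw [this]
        exact hm1.mul ⟨_, rfl⟩)
      have hr0 : r ≠ 0 ∨ s ≠ 0 := by
        by_contra! h
        rw [h.1, h.2] at hrs
        simp at hrs
      refine mk_not_commute (fun e => ?_) fun e => ?_ <;>
        rw [Matrix.SpecialLinearGroup.coe_mul] at e
      · have e0 := congrFun (congrFun e 0) 0
        have e1 := congrFun (congrFun e 1) 0
        simp [a, b] at e0 e1
        rcases hr0 with hr | hs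
        · exact mul_ne_zero hB (mul_ne_zero h2 hr) (by linear_combination e1)
        · exact mul_ne_zero hB (mul_ne_zero h2 (mul_ne_zero hs hν0)) (by linear_combination e0)
      · have e0 := congrFun (congrFun e 0) 0
        have e1 := congrFun (congrFun e 1) 0
        simp [a, b] at e0 e1
        rcases hr0 with hr | hs
        · exact mul_ne_zero hAne (mul_ne_zero h2 hr) (by linear_combination e0)
        · exact mul_ne_zero hAne (mul_ne_zero h2 hs) (by linear_combination e1)
  · -- the split torus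
    have hm1 : ¬ IsSquare (-1 : F) := fun h => (FiniteField.isSquare_neg_one_iff.1 h) (by omega)
    have h40 : (4 : F) ≠ 0 := by exact_mod_cast hle 4 (by omega) (by omega)
    let g₀ : GL (Fin 2) F := GeneralLinearGroup.mkOfDetNeZero !![-1, 0; 0, 1]
      (by simp [det_fin_two_of])
    have hgv : g₀.1 = !![-1, 0; 0, 1] := rfl
    let a : SL(2, F) := ⟨!![4, 0; 0, (4 : F)⁻¹], by simp [det_fin_two_of, h40]⟩
    let b : SL(2, F) := ⟨!![0, 1; -1, 0], by simp [det_fin_two_of]⟩
    refine ⟨g₀, fun hs => hm1 ?_, QuotientGroup.mk a, QuotientGroup.mk b,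
      semiAut_fix g₀ _ a 1 ?_, semiAut_fix g₀ _ b (-1) ?_, ?_, ?_, ?_⟩
    · simpa [hgv, det_fin_two_of] using hs
    · rw [hgv]
      ext i j
      fin_cases i <;> fin_cases j <;> simp [a]
    · rw [hgv]
      ext i j
      fin_cases i <;> fin_cases j <;> simp [b]
    · have hpow : ∀ k : ℕ, a.1 ^ k = !![4 ^ k, 0; 0, (4 : F)⁻¹ ^ k] := by
        intro k
        induction k with
        | zero => simp [one_fin_two]
        | succ k ih => rw [pow_succ, ih]; simp [a, pow_succ]
      have h4k : (4 : F) ^ (p / 2) = 1 := by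
        rw [show (4 : F) = 2 ^ 2 by norm_num, ← pow_mul, show 2 * (p / 2) = p - 1 by omega]
        exact FiniteField.pow_card_sub_one_eq_one 2 h2
      refine Odd.of_dvd_nat (Nat.odd_iff.2 (show p / 2 % 2 = 1 by omega))
        (orderOf_mk_dvd (c := 1) ?_)
      rw [hpow, inv_pow, h4k, inv_one, one_smul, one_fin_two]
    · refine orderOf_mk_dvd (c := -1) ?_
      rw [pow_two, one_fin_two]
      simp [b]
    · refine mk_not_commute (fun e => ?_) fun e => ?_
      · have e0 := congrFun (congrFun e 0) 1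
        simp [a, b] at e0
        have h0 : ((15 : ℕ) : F) = 0 := by
          push_cast
          linear_combination 4 * e0 + mul_inv_cancel₀ h40
        refine hne 15 (fun hd => ?_) h0
        have := Nat.le_of_dvd (by norm_num) hd
        interval_cases p <;> first | omega | norm_num at hd hp
      · have e0 := congrFun (congrFun e 0) 1
        simp [a, b] at e0
        have h0 : ((17 : ℕ) : F) = 0 := by
          push_cast
          linear_combination 4 * e0 - mul_inv_cancel₀ h40
        refine hne 17 (fun hd => ?_) h0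
        have := Nat.le_of_dvd (by norm_num) hd
        interval_cases p <;> omega

end Two

end CfsgLib.Invol.CN
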