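import Cfsg.Agent.Lib.Invol.CN.Module
import Cfsg.Agent.Lib.Invol.CIT.Main
import Cfsg.Agent.Lib.Suzuki.Model
import Cfsg.Agent.Lib.Suzuki.Martineau.Group
import Cfsg.Agent.Lib.Amalgam.HigmanSL2Group
import Cfsg.Agent.Lib.Block.BRTheorem
import Cfsg.Agent.Lib.ClassK.SmallSimple
import Cfsg.Agent.Lib.Char.Burnside

/-!
The structure of the non-solvable CN-groups.
-/

set_option autoImplicit false
set_option linter.unusedSectionVars false
set_option linter.style.haveILetI false

namespace CfsgLib.Invol.CN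

open Subgroup

universe u

/-- Transport of simplicity. -/
theorem isSimpleGroup_congr {G H : Type*} [Group G] [Group H] (e : G ≃* H) [IsSimpleGroup G] :
    IsSimpleGroup H :=
  haveI := e.symm.toEquiv.nontrivial
  IsSimpleGroup.isSimpleGroup_of_surjective e.toMonoidHom e.surjective

/-- The possible socles. -/
def IsSocleType (L : Type*) [Group L] : Prop :=
  (∃ (F : Type) (_ : Field F) (_ : Fintype F), CharP F 2 ∧ 4 ≤ Fintype.card F ∧
      Nonempty (L ≃* Matrix.ProjectiveSpecialLinearGroup (Fin 2) F)) ∨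
  (∃ (F : Type) (_ : Field F) (_ : Fintype F), Fintype.card F = 9 ∧
      Nonempty (L ≃* Matrix.ProjectiveSpecialLinearGroup (Fin 2) F)) ∨
  (∃ (F : Type) (_ : Field F) (_ : Fintype F), (Fintype.card F).Prime ∧ 7 ≤ Fintype.card F ∧
      Nonempty (L ≃* Matrix.ProjectiveSpecialLinearGroup (Fin 2) F)) ∨
  (∃ (F : Type) (_ : Field F) (_ : Fintype F), Fintype.card F = 4 ∧
      Nonempty (L ≃* Matrix.ProjectiveSpecialLinearGroup (Fin 3) F)) ∨
  (Cfsg.IsSuzuki L ∧ ∃ (F : Type) (_ : Field F) (_ : Fintype F) (_ : CharP F 2) (m : ℕ), 1 ≤ m ∧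
      Fintype.card F = 2 ^ (2 * m + 1) ∧ Nonempty (L ≃* Cfsg.Sz F m))

/-- A non-abelian simple CN-group is of socle type. -/
theorem isSocleType {L : Type*} [Group L] [Finite L] [IsSimpleGroup L]
    (hna : ∃ a b : L, a * b ≠ b * a) (hCN : Cfsg.IsCNGroup L) : IsSocleType L := by
  classical
  rcases CfsgLib.Invol.CIT.classification hna (isCIT hna hCN) with
    ⟨F, iF, iFF, hlist, ⟨e⟩⟩ | h | ⟨hS, F, iF, iFF, m, hm, hF, ⟨e⟩⟩
  · have h4 : 4 ≤ Fintype.card F := by
      have h1 : 1 < Fintype.card F := Fintype.one_lt_card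
      by_contra hlt
      obtain ⟨a, b, hab⟩ := hna
      refine hab ((IsSimpleGroup.comm_iff_isSolvable.2 ?_) a b)
      rcases (show Fintype.card F = 2 ∨ Fintype.card F = 3 by omega) with h | h
      · exact CfsgLib.Char.burnside_pq 2 3 Nat.prime_two Nat.prime_three 1 1 L (by
          rw [Nat.card_congr e.toEquiv, CfsgLib.Classical.card_psl_two_eq h 6 (by norm_num)]; rfl)
      · exact CfsgLib.Char.burnside_pq 2 3 Nat.prime_two Nat.prime_three 2 1 L (by
          rw [Nat.card_congr e.toEquiv, CfsgLib.Classical.card_psl_two_eq h 12 (by norm_num)]; rfl)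
    haveI : Fact (Nat.Prime 2) := ⟨Nat.prime_two⟩
    rcases hlist with h | ⟨n, hn⟩ | ⟨hp, -⟩
    · exact Or.inr (Or.inl ⟨F, iF, iFF, h, ⟨e⟩⟩)
    · exact Or.inl ⟨F, iF, iFF, charP_of_card_eq_prime_pow hn, h4, ⟨e⟩⟩
    · rcases Nat.lt_or_ge (Fintype.card F) 7 with h7 | h7
      · have h5 : Fintype.card F = 5 := by
          interval_cases h : Fintype.card F <;> first | rfl | norm_num at hp
        let K := GaloisField 2 2
        letI : Fintype K := Fintype.ofFinite K
        have hK : Fintype.card K = 4 := by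
          rw [Fintype.card_eq_nat_card, GaloisField.card 2 2 two_ne_zero]; norm_num
        haveI := CfsgLib.ClassK.isSimpleGroup_psl_two (F := F) h4
        haveI := CfsgLib.ClassK.isSimpleGroup_psl_two (F := K) hK.ge
        obtain ⟨f⟩ := CfsgLib.ClassK.nonempty_equiv_sixty
          (G := Matrix.ProjectiveSpecialLinearGroup (Fin 2) F)
          (H := Matrix.ProjectiveSpecialLinearGroup (Fin 2) K)
          (CfsgLib.Classical.card_psl_two_eq h5 60 (by norm_num))
          (CfsgLib.Classical.card_psl_two_eq hK 60 (by norm_num))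
        exact Or.inl ⟨K, inferInstance, inferInstance, inferInstance, hK.ge, ⟨e.trans f⟩⟩
      · exact Or.inr (Or.inr (Or.inl ⟨F, iF, iFF, hp, h7, ⟨e⟩⟩))
  · exact Or.inr (Or.inr (Or.inr (Or.inl h)))
  · haveI : Fact (Nat.Prime 2) := ⟨Nat.prime_two⟩
    haveI : CharP F 2 := charP_of_card_eq_prime_pow hF
    exact Or.inr (Or.inr (Or.inr (Or.inr
      ⟨hS, F, iF, iFF, inferInstance, m, hm, hF, ⟨e.trans (CfsgLib.Suzuki.szEquiv hm hF).symm⟩⟩)))

section Socle

variable {G : Type u} [Group G] [Finite G] {L : Subgroup G} [L.Normal]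
  {L₀ : Type*} [Group L₀] [Finite L₀] [IsSimpleGroup L₀] (e : L ≃* L₀)

/-- The conjugation action on a model of a normal subgroup. -/
noncomputable def modelAction : G →* MulAut L₀ :=
  (MulAut.congr e).toMonoidHom.comp MulAut.conjNormal

theorem modelAction_apply (g : G) (a : L₀) :
    modelAction e g a = e (MulAut.conjNormal g (e.symm a)) := rfl

theorem modelAction_injective (hC : centralizer (L : Set G) = ⊥) :
    Function.Injective (modelAction e) := by
  rw [injective_iff_map_eq_one]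
  intro g hg
  have hmem : g ∈ centralizer (L : Set G) := mem_centralizer_iff.2 fun a ha => by
    have h := congrArg e.symm (DFunLike.congr_fun hg (e ⟨a, ha⟩))
    rw [modelAction_apply, MulAut.one_apply, e.symm_apply_apply, e.symm_apply_apply] at h
    have h' := congrArg Subtype.val h
    rw [MulAut.conjNormal_apply] at h'
    exact (mul_inv_eq_iff_eq_mul.1 h').symm
  rwa [hC, mem_bot] at hmem

theorem modelAction_coe (a : L) : modelAction e (a : G) = MulAut.conj (e a) := by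
  refine MulEquiv.ext fun b => ?_
  rw [modelAction_apply, MulAut.conj_apply, ← map_inv,
    show MulAut.conjNormal (a : G) (e.symm b) = a * e.symm b * a⁻¹ from
      Subtype.ext (MulAut.conjNormal_apply _ _), map_mul, map_mul, e.apply_symm_apply]

/-- Properties of the image of the action. -/
theorem modelAction_range (hCN : Cfsg.IsCNGroup G) (hC : centralizer (L : Set G) = ⊥) :
    Cfsg.IsCNGroup (modelAction e).range ∧
      (∀ x, MulAut.conj x ∈ (modelAction e).range) ∧
      ∀ g, modelAction e g ∈ (MulAut.conj : L₀ →* MulAut L₀).range → g ∈ L := by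
  refine ⟨CfsgLib.OddLocal.isCNGroup_of_mulEquiv
    (MonoidHom.ofInjective (modelAction_injective e hC)) hCN, fun x => ?_, fun g ⟨x, hx⟩ => ?_⟩
  · exact ⟨(e.symm x : G), by rw [modelAction_coe, e.apply_symm_apply]⟩
  · have : g = (e.symm x : G) := modelAction_injective e hC (by
      rw [modelAction_coe, e.apply_symm_apply, hx])
    rw [this]
    exact (e.symm x).2

include e in
theorem conj_injective_model (hna : ∃ a b : L, a * b ≠ b * a) :
    Function.Injective (MulAut.conj : L₀ →* MulAut L₀) := by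
  obtain ⟨a, b, hab⟩ := hna
  exact conj_injective ⟨e a, e b, fun h => hab (e.injective (by rw [map_mul, map_mul, h]))⟩

end Socle

/-- A non-solvable CN-group without 2-core is simple, or has `PSL(2, 9)` with index two. -/
theorem socle_structure {G : Type u} [Group G] [Finite G] (hns : ¬ Group.IsSolvable G)
    (hCN : Cfsg.IsCNGroup G) (h2 : Cfsg.pCore 2 G = ⊥) :
    ∃ L : Subgroup G, L.Normal ∧ IsSimpleGroup L ∧ (∃ a b : L, a * b ≠ b * a) ∧ IsSocleType L ∧
      (L = ⊤ ∨ (L.index = 2 ∧ ∃ (F : Type) (_ : Field F) (_ : Fintype F), Fintype.card F = 9 ∧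
        Nonempty (L ≃* Matrix.ProjectiveSpecialLinearGroup (Fin 2) F))) := by
  haveI : Nontrivial G := by
    by_contra h
    rw [not_nontrivial_iff_subsingleton] at h
    exact hns (Group.isSolvable_of_comm fun a b => Subsingleton.elim _ _)
  obtain ⟨L, hLn, hLs, hna, hC⟩ := exists_socle
    (fun N hN hs => eq_bot_of_solvable (oddCore_eq_bot hns hCN) h2 hN hs)
    (fun x hx => by haveI := hCN x hx; infer_instance)
  haveI := hLn
  haveI := hLs
  have hT := isSocleType hna (CfsgLib.OddLocal.isCNGroup_subgroup hCN L)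
  refine ⟨L, hLn, hLs, hna, hT, ?_⟩
  rcases hT with ⟨F, _, _, hF2, h4, ⟨e⟩⟩ | ⟨F, iF, iFF, h9, ⟨e⟩⟩ | ⟨F, _, _, hp, h7, ⟨e⟩⟩ |
    ⟨F, _, _, h4, ⟨e⟩⟩ | ⟨-, F, _, _, _, m, hm, hF, ⟨e⟩⟩
  · haveI := isSimpleGroup_congr e
    obtain ⟨hA, hinn, hback⟩ := modelAction_range e hCN hC
    have hinj := conj_injective_model e hna
    refine Or.inl (eq_top_iff.2 fun g _ => hback g ?_)
    rcases CfsgLib.KnownC.mulAut_psl_cases (le_refl 2) (modelAction e g) with ⟨k, σ, hk⟩ | ⟨h3, -⟩
    swap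
    · omega
    rw [hk]
    exact inner_of_isSquare hA hinn hinj (FiniteField.isSquare_of_char_two (ringChar.eq F 2) _)
      ⟨g, hk⟩
  · haveI := isSimpleGroup_congr e
    obtain ⟨hA, hinn, hback⟩ := modelAction_range e hCN hC
    have hinj := conj_injective_model e hna
    by_cases hL : L = ⊤
    · exact Or.inl hL
    refine Or.inr ⟨?_, F, iF, iFF, h9, ⟨e⟩⟩
    obtain ⟨a, ha⟩ : ∃ a, a ∉ L := by
      by_contra! h
      exact hL (eq_top_iff.2 fun g _ => h g)
    have key : ∀ g k, g ∉ L → k ∉ L → g * k ∈ L := fun g k hg hk => hback _ (by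
      rw [map_mul]
      exact pslTwo_index hA hinn hinj ⟨g, rfl⟩ ⟨k, rfl⟩ (fun h => hg (hback g h))
        fun h => hk (hback k h))
    refine Subgroup.index_eq_two_iff.2 ⟨a, fun b => ?_⟩
    by_cases hb : b ∈ L
    · exact Or.inr ⟨hb, fun h => ha ((mul_mem_cancel_left hb).1 h)⟩
    · exact Or.inl ⟨key b a hb ha, hb⟩
  · haveI := isSimpleGroup_congr e
    obtain ⟨hA, hinn, hback⟩ := modelAction_range e hCN hC
    have hinj := conj_injective_model e hna
    exact Or.inl (eq_top_iff.2 fun g _ =>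
      hback g (pslTwo_prime hA hinn hinj hp (by omega) ⟨g, rfl⟩))
  · haveI := isSimpleGroup_congr e
    obtain ⟨hA, hinn, hback⟩ := modelAction_range e hCN hC
    have hinj := conj_injective_model e hna
    exact Or.inl (eq_top_iff.2 fun g _ => hback g (pslThree_inner h4 hA hinn hinj ⟨g, rfl⟩))
  · haveI := isSimpleGroup_congr e
    obtain ⟨hA, hinn, hback⟩ := modelAction_range e hCN hC
    have hinj := conj_injective_model e hna
    exact Or.inl (eq_top_iff.2 fun g _ => hback g (suzuki_inner hm hF hA hinn hinj ⟨g, rfl⟩))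

section TwoCore

variable {G : Type u} [Group G] [Finite G] (hc : CIT.IsCIT G) {Q : Subgroup G} [Q.Normal]
  (hQ : IsPGroup 2 Q)
include hc hQ

/-- A lift of an element of odd order fixes only the identity in the kernel. -/
theorem eq_one_of_lift_fix {x : G} (hx : x ∉ Q) (hodd : Odd (orderOf (QuotientGroup.mk' Q x)))
    {q : G} (hq : q ∈ Q) (hxq : x * q * x⁻¹ = q) : q = 1 := by
  by_contra hq1
  have h2 := hc.two_pow_of_commute (CIT.exists_two_pow_of_mem hQ hq) hq1
    (mul_inv_eq_iff_eq_mul.1 hxq : Commute x q)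
  obtain ⟨k, hk⟩ := h2
  have h1 : QuotientGroup.mk' Q x = 1 :=
    CIT.eq_one_of_two_pow_of_odd ⟨k, by rw [← map_pow, hk, map_one]⟩ hodd
  exact hx ((QuotientGroup.eq_one_iff x).1 h1)

/-- The fixed-point-free module of the quotient inside the centre of the kernel. -/
theorem exists_module (hQ1 : Q ≠ ⊥) :
    ∃ (M : Type u) (_ : AddCommGroup M) (_ : Nontrivial M) (_ : ∀ v : M, v + v = 0)
      (ρ : G ⧸ Q →* AddMonoid.End M),
      ∀ y, Odd (orderOf y) → y ≠ 1 → ∀ v : M, ρ y v = v → v = 0 := by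
  haveI : Fact (Nat.Prime 2) := ⟨Nat.prime_two⟩
  let V : Subgroup G :=
    { carrier := {v | v ∈ Q ∧ (∀ q ∈ Q, q * v = v * q) ∧ v * v = 1}
      one_mem' := ⟨one_mem Q, fun q _ => by rw [mul_one, one_mul], one_mul 1⟩
      mul_mem' := fun {a b} ha hb => ⟨mul_mem ha.1 hb.1, fun q hq => by
        rw [← mul_assoc, ha.2.1 q hq, mul_assoc, hb.2.1 q hq, mul_assoc], by
        calc a * b * (a * b) = a * (b * a) * b := by group
          _ = a * (a * b) * b := by rw [hb.2.1 a ha.1]
          _ = a * a * (b * b) := by group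
          _ = 1 := by rw [ha.2.2, hb.2.2, one_mul]⟩
      inv_mem' := fun {a} ha => by
        rw [show a⁻¹ = a from inv_eq_of_mul_eq_one_right ha.2.2]; exact ha }
  have hVn : V.Normal := ⟨fun v hv g => ⟨‹Q.Normal›.conj_mem v hv.1 g, fun q hq => by
      have h := hv.2.1 _ (‹Q.Normal›.conj_mem q hq g⁻¹)
      rw [inv_inv] at h
      calc q * (g * v * g⁻¹) = g * (g⁻¹ * q * g * v) * g⁻¹ := by group
        _ = g * v * g⁻¹ * q := by rw [h]; group,
    by rw [show g * v * g⁻¹ * (g * v * g⁻¹) = g * (v * v) * g⁻¹ by group, hv.2.2]; group⟩⟩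
  haveI := hVn
  have hV1 : V ≠ ⊥ := by
    haveI : Nontrivial Q := Q.nontrivial_iff_ne_bot.2 hQ1
    haveI : Nontrivial (center Q) := hQ.center_nontrivial
    have hd : 2 ∣ Nat.card (center Q) := by
      obtain ⟨k, hk⟩ := IsPGroup.iff_card.1 (hQ.to_subgroup (center Q))
      rw [hk]
      refine dvd_pow_self _ fun h0 => ?_
      rw [h0, pow_zero] at hk
      exact (Finite.one_lt_card (α := center Q)).ne' hk
    obtain ⟨z, hz⟩ := exists_prime_orderOf_dvd_card' 2 hd
    intro h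
    have hmem : ((z : Q) : G) ∈ V := by
      refine ⟨(z : Q).2, fun q hq => congrArg Subtype.val (mem_center_iff.1 z.2 ⟨q, hq⟩), ?_⟩
      have h1 := pow_orderOf_eq_one z
      rw [hz, pow_two] at h1
      exact congrArg (fun t : center Q => ((t : Q) : G)) h1
    rw [h, mem_bot] at hmem
    rw [show z = 1 from Subtype.ext (Subtype.ext hmem), orderOf_one] at hz
    omega
  letI : CommGroup V :=
    { (inferInstance : Group V) with mul_comm := fun a b => Subtype.ext (b.2.2.1 a a.2.1) }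
  let ψ : G ⧸ Q →* MulAut V := QuotientGroup.lift Q (MulAut.conjNormal (H := V)) fun q hq => by
    rw [MonoidHom.mem_ker]
    ext a
    rw [MulAut.conjNormal_apply, MulAut.one_apply, a.2.2.1 q hq, mul_inv_cancel_right]
  let ρ : G ⧸ Q →* AddMonoid.End (Additive V) :=
    { toFun := fun g => MonoidHom.toAdditive (ψ g).toMonoidHom
      map_one' := AddMonoidHom.ext fun a => congrArg Additive.ofMul (by
        show ψ 1 a.toMul = _; rw [map_one]; rfl)
      map_mul' := fun g k => AddMonoidHom.ext fun a => congrArg Additive.ofMul (by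
        show ψ (g * k) a.toMul = _; rw [map_mul]; rfl) }
  haveI : Nontrivial V := V.nontrivial_iff_ne_bot.2 hV1
  refine ⟨Additive V, inferInstance, inferInstance,
    fun v => congrArg Additive.ofMul (Subtype.ext v.toMul.2.2.2 : v.toMul * v.toMul = 1), ρ,
    fun y hy hy1 v hv => ?_⟩
  obtain ⟨x, rfl⟩ := QuotientGroup.mk'_surjective Q y
  refine congrArg Additive.ofMul (Subtype.ext ?_ : v.toMul = 1)
  exact eq_one_of_lift_fix hc hQ (fun h => hy1 ((QuotientGroup.eq_one_iff x).2 h)) hy v.toMul.2.1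
    (congrArg (fun w : Additive V => ((w.toMul : V) : G)) hv)

end TwoCore

/-- The structure of the non-solvable CN-groups. -/
theorem structure_thm {G : Type u} [Group G] [Finite G] (hns : ¬ Group.IsSolvable G)
    (hCN : Cfsg.IsCNGroup G) :
    (IsSimpleGroup G ∧ ¬ IsMulCommutative G) ∨
    (∃ (N : Subgroup G), N.Normal ∧ N.index = 2 ∧ ∃ (F : Type) (_ : Field F) (_ : Fintype F),
        Fintype.card F = 9 ∧ Nonempty (N ≃* Matrix.ProjectiveSpecialLinearGroup (Fin 2) F)) ∨
    (∃ (N : Subgroup G) (_ : N.Normal), N ≠ ⊥ ∧ IsPGroup 2 N ∧ IsMulCommutative N ∧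
        (∀ x ∈ N, x * x = 1) ∧
        ((∃ (F : Type) (_ : Field F) (_ : Fintype F), CharP F 2 ∧ 4 ≤ Fintype.card F ∧
            Nonempty (G ⧸ N ≃* Matrix.ProjectiveSpecialLinearGroup (Fin 2) F)) ∨
          Cfsg.IsSuzuki (G ⧸ N))) := by
  haveI : Fact (Nat.Prime 2) := ⟨Nat.prime_two⟩
  by_cases hQ1 : Cfsg.pCore 2 G = ⊥
  · obtain ⟨L, hLn, hLs, ⟨a, b, hab⟩, -, rfl | ⟨hi, h9⟩⟩ := socle_structure hns hCN hQ1
    · refine Or.inl ⟨isSimpleGroup_congr (Subgroup.topEquiv (G := G)), fun hc => hab ?_⟩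
      exact Subtype.ext (hc.is_comm.comm _ _)
    · exact Or.inr (Or.inl ⟨L, hLn, hi, h9⟩)
  set Q := Cfsg.pCore 2 G with hQdef
  haveI hQn : Q.Normal := CfsgLib.Solvable.pCore_normal 2 G
  have hQ : IsPGroup 2 Q := CfsgLib.Solvable.pCore_isPGroup 2
  haveI := hQ.isNilpotent
  have hns' : ¬ Group.IsSolvable (G ⧸ Q) := fun h => hns (Group.isSolvable_of_ker_le_range Q.subtype
    (QuotientGroup.mk' Q) (by rw [QuotientGroup.ker_mk', Subgroup.range_subtype]))
  have hCN' := Cfsg.Agent.S1473.result hCN Q inferInstance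
  have hc : CIT.IsCIT G := isCIT_of_not_isSolvable hns hCN
  obtain ⟨L, hLn, hLs, -, hT, htop⟩ := socle_structure hns' hCN'
    (CfsgLib.Solvable.pCore_quotient_eq_bot 2)
  obtain ⟨M, _, _, hM2, ρ, hρ⟩ := exists_module hc hQ hQ1
  -- the module on the socle
  have hmod : ∀ {L₀ : Type} [Group L₀] (e : L ≃* L₀) (x : L₀), Odd (orderOf x) → x ≠ 1 →
      ∀ v : M, ρ.comp ((L.subtype).comp e.symm.toMonoidHom) x v = v → v = 0 := by
    intro L₀ _ e x hx hx1 v hv
    refine hρ ((e.symm x : L) : G ⧸ Q) ?_ ?_ v hv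
    · rwa [Subgroup.orderOf_coe, MulEquiv.orderOf_eq]
    · exact fun h => hx1 (e.symm.injective (by rw [map_one]; exact Subtype.ext h))
  refine Or.inr (Or.inr ?_)
  rcases htop with rfl | ⟨-, F, _, _, h9, ⟨e⟩⟩
  swap
  · exact (false_of_pslTwo_nine hM2 h9 _ (hmod e)).elim
  have et : G ⧸ Q ≃* (⊤ : Subgroup (G ⧸ Q)) := Subgroup.topEquiv.symm
  rcases hT with ⟨F, iF, iFF, hF2, h4, ⟨e⟩⟩ | ⟨F, _, _, h9, ⟨e⟩⟩ | ⟨F, _, _, hp, h7, ⟨e⟩⟩ |
    ⟨F, _, _, h4, ⟨e⟩⟩ | ⟨⟨hSs, hScard⟩, F, _, _, _, m, hm, hF, ⟨e⟩⟩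
  · haveI := hF2
    obtain ⟨n, -, hn⟩ := FiniteField.card F 2
    obtain ⟨f⟩ := CfsgLib.Block.BrauerReynolds.psl_equiv_sl_char_two F n.pos hn
    let es : G ⧸ Q ≃* Matrix.SpecialLinearGroup (Fin 2) F := (et.trans e).trans f
    obtain ⟨x, hx⟩ := QuotientGroup.mk'_surjective Q
      (es.symm (CfsgLib.Amalgam.Higman.U 1 * CfsgLib.Amalgam.Higman.W F))
    have hex : es (QuotientGroup.mk' Q x) = CfsgLib.Amalgam.Higman.U 1 * CfsgLib.Amalgam.Higman.W F := by
      rw [hx, es.apply_symm_apply]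
    set M₀ := CfsgLib.Amalgam.Higman.U (1 : F) * CfsgLib.Amalgam.Higman.W F with hM₀
    have h3 : M₀ ^ 3 = 1 := by
      refine Subtype.ext ?_
      rw [Matrix.SpecialLinearGroup.coe_pow, hM₀, Matrix.SpecialLinearGroup.coe_mul]
      show (!![1, 1; 0, 1] * !![0, 1; 1, 0] : Matrix (Fin 2) (Fin 2) F) ^ 3 = 1
      rw [pow_succ, pow_two, Matrix.one_fin_two]
      simp [CharTwo.add_self_eq_zero]
    have hne : M₀ ≠ 1 := fun h => by
      have h' : M₀.1 = 1 := congrArg Subtype.val h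
      rw [hM₀, Matrix.SpecialLinearGroup.coe_mul] at h'
      have := congrFun (congrFun h' 1) 0
      simp [CfsgLib.Amalgam.Higman.U, CfsgLib.Amalgam.Higman.W] at this
    have hodd : Odd (orderOf (QuotientGroup.mk' Q x)) := by
      rw [← MulEquiv.orderOf_eq es, hex]
      exact (by decide : Odd 3).of_dvd_nat (orderOf_dvd_of_pow_eq_one h3)
    have hxQ : x ∉ Q := fun h => hne (by
      rw [← hex, show QuotientGroup.mk' Q x = 1 from (QuotientGroup.eq_one_iff x).2 h, map_one])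
    obtain ⟨hab, hsq⟩ := CfsgLib.Amalgam.Higman.elementary (by omega) _ G rfl Q hQ es x hex
      fun q hq => eq_one_of_lift_fix hc hQ hxQ hodd hq
    exact ⟨Q, hQn, hQ1, hQ, ⟨⟨fun a b => Subtype.ext (hab a a.2 b b.2)⟩⟩, hsq,
      Or.inl ⟨F, iF, iFF, hF2, h4, ⟨et.trans e⟩⟩⟩
  · exact (false_of_pslTwo_nine hM2 h9 _ (hmod e)).elim
  · exact (false_of_pslTwo_prime hM2 hp h7 _ (hmod e)).elim
  · exact (false_of_pslThree hM2 h4 _ (hmod e)).elim
  · let P : CfsgLib.Suzuki.Martineau.Param F m := ⟨hm, hF⟩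
    let es : G ⧸ Q ≃* Cfsg.Sz F m := et.trans e
    obtain ⟨x, hx⟩ := QuotientGroup.mk'_surjective Q (es.symm (CfsgLib.Suzuki.Martineau.xG P.h))
    have hex : es (QuotientGroup.mk' Q x) = CfsgLib.Suzuki.Martineau.xG P.h := by
      rw [hx, es.apply_symm_apply]
    have hne : CfsgLib.Suzuki.Martineau.xG P.h ≠ 1 := fun h => by
      have h' : (CfsgLib.Suzuki.Martineau.xG P.h).1.1 = (1 : Matrix (Fin 4) (Fin 4) F) := by
        rw [h]; rfl
      rw [CfsgLib.Suzuki.Martineau.xG, Subgroup.coe_mul, Matrix.SpecialLinearGroup.coe_mul] at h'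
      have := congrFun (congrFun h' 0) 1
      simp [CfsgLib.Suzuki.tSL, CfsgLib.Suzuki.tMat, CfsgLib.Suzuki.wSL, CfsgLib.Suzuki.wG,
        Matrix.mul_apply, Fin.sum_univ_four] at this
    have hodd : Odd (orderOf (QuotientGroup.mk' Q x)) := by
      rw [← MulEquiv.orderOf_eq es, hex]
      exact (by decide : Odd 5).of_dvd_nat
        (orderOf_dvd_of_pow_eq_one (CfsgLib.Suzuki.Martineau.xG_pow_five P.h))
    have hxQ : x ∉ Q := fun h => hne (by
      rw [← hex, show QuotientGroup.mk' Q x = 1 from (QuotientGroup.eq_one_iff x).2 h, map_one])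
    obtain ⟨hab, hsq⟩ := CfsgLib.Suzuki.Martineau.elementary P _ G rfl Q hQ es x hex
      fun q hq => eq_one_of_lift_fix hc hQ hxQ hodd hq
    refine ⟨Q, hQn, hQ1, hQ, ⟨⟨fun a b => Subtype.ext (hab a a.2 b b.2)⟩⟩, hsq, Or.inr ⟨?_, ?_⟩⟩
    · exact isSimpleGroup_congr et.symm
    · rwa [Nat.card_congr et.toEquiv]

end CfsgLib.Invol.CN
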