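import Cfsg.Agent.Lib.Invol.CN.AutPSLThree

/-!
An elementary abelian 2-group on which the elements of odd order act fixed point freely admits no
`PSL(2, 9)`, no `PSL(3, 4)` and no `PSL(2, p)` with `p ≥ 7`.
-/

set_option autoImplicit false
set_option linter.unusedSectionVars false
set_option linter.style.haveILetI false

namespace CfsgLib.Invol.CN

open Matrix

section General

variable {L : Type*} [Group L] {M : Type*} [AddCommGroup M] (ρ : L →* AddMonoid.End M)
  (hfpf : ∀ x : L, Odd (orderOf x) → x ≠ 1 → ∀ v : M, ρ x v = v → v = 0)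
include hfpf

/-- An element of order three satisfies `1 + x + x² = 0`. -/
theorem sum_three_eq_zero {x : L} (hx : x * x * x = 1) (hx1 : x ≠ 1) :
    1 + ρ x + ρ x * ρ x = 0 := by
  refine AddMonoidHom.ext fun v => ?_
  have hodd : Odd (orderOf x) := (by decide : Odd 3).of_dvd_nat
    (orderOf_dvd_of_pow_eq_one (by rw [pow_succ, pow_two]; exact hx))
  refine hfpf x hodd hx1 _ ?_
  have h3 : ρ x (ρ x (ρ x v)) = v := by
    have := congrArg (fun f : AddMonoid.End M => f v) (congrArg ρ hx)
    rw [map_mul, map_mul, map_one] at this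
    exact this
  show ρ x (v + ρ x v + ρ x (ρ x v)) = v + ρ x v + ρ x (ρ x v)
  rw [map_add, map_add, h3]
  abel

/-- No elementary abelian subgroup of order nine. -/
theorem false_of_three_pair [Nontrivial M] (h2 : ∀ v : M, v + v = 0) {a b : L} (hab : a * b = b * a)
    (ha : a * a * a = 1) (hb : b * b * b = 1) (ha1 : a ≠ 1) (hb1 : b ≠ 1) (h1 : a * b ≠ 1)
    (h3 : a * (b * b) ≠ 1) : False := by
  have hc : Commute a b := hab
  have e3 : a * b * (a * b) * (a * b) = 1 := by
    have := hc.mul_pow 3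
    rw [pow_succ, pow_two, pow_succ a, pow_two a, pow_succ b, pow_two b, ha, hb, one_mul] at this
    exact this
  have e4 : a * (b * b) * (a * (b * b)) * (a * (b * b)) = 1 := by
    have := (hc.mul_right hc).mul_pow 3
    rw [pow_succ, pow_two, pow_succ a, pow_two a, pow_succ (b * b), pow_two (b * b), ha,
      show b * b * (b * b) * (b * b) = (b * b * b) * (b * b * b) by group, hb, one_mul, one_mul] at this
    exact this
  have r1 := sum_three_eq_zero ρ hfpf ha ha1
  have r2 := sum_three_eq_zero ρ hfpf hb hb1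
  have r3 := sum_three_eq_zero ρ hfpf e3 h1
  have r4 := sum_three_eq_zero ρ hfpf e4 h3
  have i3 : a * b * (a * b) = a * a * (b * b) := hc.symm.mul_mul_mul_comm a b
  have i4 : a * (b * b) * (a * (b * b)) = a * a * b := by
    rw [(hc.mul_right hc).symm.mul_mul_mul_comm, show b * b * (b * b) = b * b * b * b by group, hb,
      one_mul]
  rw [← map_mul, i3, map_mul, map_mul, map_mul, map_mul] at r3
  rw [← map_mul, i4, map_mul, map_mul, map_mul, map_mul] at r4
  obtain ⟨v, hv⟩ := exists_ne (0 : M)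
  have key : (1 : AddMonoid.End M) + 1 + 1 = 0 := by
    rw [show (1 : AddMonoid.End M) + 1 + 1 =
      (1 + ρ a + ρ a * ρ a) + (1 + ρ b + ρ b * ρ b) + (1 + ρ a * ρ b + ρ a * ρ a * (ρ b * ρ b)) +
      (1 + ρ a * (ρ b * ρ b) + ρ a * ρ a * ρ b) - (1 + ρ a + ρ a * ρ a) * (1 + ρ b + ρ b * ρ b) by
        noncomm_ring, r1, r2, r3, r4]
    simp
  have := congrArg (fun f : AddMonoid.End M => f v) key
  refine hv ?_
  change v + v + v = 0 at this
  rwa [h2, zero_add] at this

end General

section PSL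

variable {F : Type*} [Field F] [Fintype F] {M : Type*} [AddCommGroup M] [Nontrivial M]
  (h2 : ∀ v : M, v + v = 0)
include h2

/-- No fixed-point-free module for `PSL(2, 9)`. -/
theorem false_of_pslTwo_nine (h9 : Fintype.card F = 9)
    (ρ : Matrix.ProjectiveSpecialLinearGroup (Fin 2) F →* AddMonoid.End M)
    (hfpf : ∀ x, Odd (orderOf x) → x ≠ 1 → ∀ v : M, ρ x v = v → v = 0) : False := by
  classical
  have h3 : (3 : F) = 0 := by
    have h := FiniteField.cast_card_eq_zero F
    rw [h9] at h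
    exact pow_eq_zero_iff two_ne_zero |>.1 (by linear_combination h : (3 : F) ^ 2 = 0)
  obtain ⟨t, -, ht⟩ := Finset.exists_mem_notMem_of_card_lt_card
    (s := ({0, 1, -1} : Finset F)) (t := Finset.univ) (by
      have := Finset.card_le_three (a := (0 : F)) (b := 1) (c := -1)
      rw [Finset.card_univ]; omega)
  simp only [Finset.mem_insert, Finset.mem_singleton, not_or] at ht
  let U : F → Matrix.SpecialLinearGroup (Fin 2) F := fun s =>
    ⟨!![1, s; 0, 1], by simp [det_fin_two_of]⟩
  let u : F → Matrix.ProjectiveSpecialLinearGroup (Fin 2) F := fun s => QuotientGroup.mk (U s)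
  have hu : ∀ r s, u r * u s = u (r + s) := fun r s => by
    refine (QuotientGroup.mk_mul _ _ _).symm.trans (congrArg QuotientGroup.mk (Subtype.ext ?_))
    show !![1, r; 0, 1] * !![1, s; 0, 1] = !![1, r + s; 0, 1]
    simp [add_comm]
  have hu0 : ∀ s, u s = 1 → s = 0 := fun s hs => by
    obtain ⟨c, hc⟩ := exists_smul_of_mk (hs.trans (QuotientGroup.mk_one _).symm)
    have := congrFun (congrFun hc 0) 1
    simpa [U] using this
  have hu3 : ∀ s, u s * u s * u s = 1 := fun s => by
    rw [hu, hu, show s + s + s = 0 by linear_combination s * h3]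
    refine congrArg QuotientGroup.mk (Subtype.ext ?_ : U 0 = 1)
    show !![1, (0 : F); 0, 1] = 1
    rw [one_fin_two]
  refine false_of_three_pair ρ hfpf h2 (a := u 1) (b := u t) (by rw [hu, hu, add_comm]) (hu3 1)
    (hu3 t) (fun e => one_ne_zero (hu0 1 e)) (fun e => ht.1 (hu0 t e))
    (fun e => ht.2.2 ?_) fun e => ht.2.1 ?_
  · rw [hu] at e
    linear_combination hu0 _ e
  · rw [hu, hu] at e
    linear_combination (-1 : F) * hu0 _ e + t * h3

/-- No fixed-point-free module for `PSL(3, 4)`. -/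
theorem false_of_pslThree (h4 : Fintype.card F = 4)
    (ρ : Matrix.ProjectiveSpecialLinearGroup (Fin 3) F →* AddMonoid.End M)
    (hfpf : ∀ x, Odd (orderOf x) → x ≠ 1 → ∀ v : M, ρ x v = v → v = 0) : False := by
  classical
  obtain ⟨ω, -, hω⟩ := Finset.exists_mem_notMem_of_card_lt_card (s := ({0, 1} : Finset F))
    (t := Finset.univ) (by
      rw [Finset.card_univ, h4, Finset.card_pair zero_ne_one]
      norm_num)
  simp only [Finset.mem_insert, Finset.mem_singleton, not_or] at hω
  have hw3 : ω * ω * ω = 1 := by linear_combination cube_eq_one h4 hω.1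
  let A : Matrix.SpecialLinearGroup (Fin 3) F :=
    ⟨!![ω, 0, 0; 0, ω * ω, 0; 0, 0, 1], by simp [det_fin_three]; linear_combination hw3⟩
  let B : Matrix.SpecialLinearGroup (Fin 3) F :=
    ⟨!![0, 0, 1; 1, 0, 0; 0, 1, 0], by simp [det_fin_three]⟩
  let a : Matrix.ProjectiveSpecialLinearGroup (Fin 3) F := QuotientGroup.mk A
  let b : Matrix.ProjectiveSpecialLinearGroup (Fin 3) F := QuotientGroup.mk B
  have hne : ∀ (X : Matrix.SpecialLinearGroup (Fin 3) F),
      (QuotientGroup.mk X : Matrix.ProjectiveSpecialLinearGroup (Fin 3) F) = 1 →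
      ∃ c : F, X.1 = c • 1 := fun X hX => exists_smul_of_mk (hX.trans (QuotientGroup.mk_one _).symm)
  refine false_of_three_pair ρ hfpf h2 (a := a) (b := b) ?_ ?_ ?_ (fun e => ?_) (fun e => ?_)
    (fun e => ?_) fun e => ?_
  · show QuotientGroup.mk (A * B) = QuotientGroup.mk (B * A)
    rw [QuotientGroup.eq]
    have h0 : (B * A).1 = (ω * ω) • (A * B).1 := by
      show B.1 * A.1 = (ω * ω) • (A.1 * B.1)
      ext i j
      fin_cases i <;> fin_cases j <;> simp [A, B, mul_apply, Fin.sum_univ_three, hw3, mul_assoc]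
      all_goals first | linear_combination -hw3 | linear_combination hw3 | linear_combination ω * hw3 | linear_combination -ω * hw3
    refine mem_center_of_smul (c := ω * ω) ?_
    show ((A * B)⁻¹).1 * (B * A).1 = _
    rw [h0, mul_smul_comm]
    exact congrArg ((ω * ω) • ·) (congrArg Subtype.val (inv_mul_cancel (A * B)))
  · refine congrArg QuotientGroup.mk (Subtype.ext ?_ : A * A * A = 1)
    show A.1 * A.1 * A.1 = 1
    ext i j
    fin_cases i <;> fin_cases j <;> simp [A, mul_apply, Fin.sum_univ_three] <;>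
      first | linear_combination hw3 | linear_combination (1 + ω * ω * ω) * hw3
  · refine congrArg QuotientGroup.mk (Subtype.ext ?_ : B * B * B = 1)
    show B.1 * B.1 * B.1 = 1
    ext i j
    fin_cases i <;> fin_cases j <;> simp [B, mul_apply, Fin.sum_univ_three]
  · obtain ⟨c, hc⟩ := hne A e
    have e0 := congrFun (congrFun hc 0) 0
    have e2 := congrFun (congrFun hc 2) 2
    simp [A] at e0 e2
    exact hω.2 (e0.trans e2.symm)
  · obtain ⟨c, hc⟩ := hne B e
    have := congrFun (congrFun hc 1) 0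
    simp [B] at this
  · obtain ⟨c, hc⟩ := hne (A * B) e
    rw [Matrix.SpecialLinearGroup.coe_mul] at hc
    have := congrFun (congrFun hc 1) 0
    simp [A, B, mul_apply, Fin.sum_univ_three, hω.1] at this
  · obtain ⟨c, hc⟩ := hne (A * (B * B)) e
    rw [Matrix.SpecialLinearGroup.coe_mul, Matrix.SpecialLinearGroup.coe_mul] at hc
    have := congrFun (congrFun hc 0) 1
    simp [A, B, mul_apply, Fin.sum_univ_three, hω.1] at this

/-- No fixed-point-free module for `PSL(2, p)` with `p ≥ 7`. -/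
theorem false_of_pslTwo_prime (hp : (Fintype.card F).Prime) (h7 : 7 ≤ Fintype.card F)
    (ρ : Matrix.ProjectiveSpecialLinearGroup (Fin 2) F →* AddMonoid.End M)
    (hfpf : ∀ x, Odd (orderOf x) → x ≠ 1 → ∀ v : M, ρ x v = v → v = 0) : False := by
  classical
  set p := Fintype.card F with hpdef
  haveI := Fact.mk hp
  haveI : CharP F p := by
    obtain ⟨q, hq⟩ := CharP.exists F
    obtain ⟨k, hqp, hk⟩ := FiniteField.card F q
    rw [hpdef, hk] at hp
    rw [hp.eq_one_of_pow, pow_one] at hk
    exact hpdef ▸ hk ▸ hq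
  have hle : ∀ k : ℕ, 0 < k → k < p → (k : F) ≠ 0 := fun k h0 hk e =>
    absurd (Nat.le_of_dvd h0 ((CharP.cast_eq_zero_iff F p k).1 e)) (by omega)
  have t2 : (2 : F) ≠ 0 := by exact_mod_cast hle 2 (by omega) (by omega)
  have t3 : (3 : F) ≠ 0 := by exact_mod_cast hle 3 (by omega) (by omega)
  have t5 : (5 : F) ≠ 0 := by exact_mod_cast hle 5 (by omega) (by omega)
  let mkp : ∀ A : Matrix.SpecialLinearGroup (Fin 2) F, Matrix.ProjectiveSpecialLinearGroup (Fin 2) F :=
    fun A => QuotientGroup.mk A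
  have mkp_mul : ∀ A B, mkp A * mkp B = mkp (A * B) := fun A B => (QuotientGroup.mk_mul _ A B).symm
  have mkp_neg : ∀ A B : Matrix.SpecialLinearGroup (Fin 2) F, A.1 = -B.1 → mkp A = mkp B := fun A B h => by
    show QuotientGroup.mk A = QuotientGroup.mk B
    rw [eq_comm, QuotientGroup.eq]
    refine mem_center_of_smul (c := -1) ?_
    show (B⁻¹).1 * A.1 = _
    rw [h, mul_neg, neg_one_smul]
    exact congrArg Neg.neg (congrArg Subtype.val (inv_mul_cancel B))
  let U : F → Matrix.SpecialLinearGroup (Fin 2) F := fun s =>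
    ⟨!![1, s; 0, 1], by simp [det_fin_two_of]⟩
  let V : F → Matrix.SpecialLinearGroup (Fin 2) F := fun s =>
    ⟨!![1, 0; s, 1], by simp [det_fin_two_of]⟩
  let X : Matrix.SpecialLinearGroup (Fin 2) F := ⟨!![0, -1; 1, -1], by simp [det_fin_two_of]⟩
  let Y : Matrix.SpecialLinearGroup (Fin 2) F := ⟨!![-1, -1; 1, 0], by simp [det_fin_two_of]⟩
  have hV : ∀ r s, V r * V s = V (r + s) := fun r s => Subtype.ext (by
    show !![1, 0; r, 1] * !![1, 0; s, 1] = !![1, 0; r + s, 1]
    simp)
  have hX3 : X * X * X = 1 := Subtype.ext (by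
    show !![0, -1; 1, -1] * !![0, -1; 1, -1] * !![0, -1; 1, -1] = 1
    rw [one_fin_two]; simp)
  have hY3 : Y * Y * Y = 1 := Subtype.ext (by
    show !![-1, -1; 1, 0] * !![-1, -1; 1, 0] * !![-1, -1; 1, 0] = 1
    rw [one_fin_two]; simp)
  have hmk1 : ∀ A i j, i ≠ j → A.1 i j ≠ 0 → mkp A ≠ 1 := fun A i j hij hA e => by
    obtain ⟨c, hc⟩ := exists_smul_of_mk (e.trans (QuotientGroup.mk_one _).symm)
    exact hA (by rw [hc]; simp [hij])
  have rX := sum_three_eq_zero ρ hfpf (x := mkp X) (congrArg mkp hX3)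
    (hmk1 X 1 0 (by decide) (by simp [X]))
  have rY := sum_three_eq_zero ρ hfpf (x := mkp Y) (congrArg mkp hY3)
    (hmk1 Y 1 0 (by decide) (by simp [Y]))
  have two : ∀ f : AddMonoid.End M, f + f = 0 := fun f => AddMonoidHom.ext fun v => h2 (f v)
  have hneg : ∀ f : AddMonoid.End M, -f = f := fun f => neg_eq_of_add_eq_zero_left (two f)
  set x := ρ (mkp X) with hxdef
  set y := ρ (mkp Y) with hydef
  have hxx : x * x = x + 1 := by
    rw [← sub_eq_zero, sub_eq_add_neg, hneg, ← rX]; abel
  have hyy : y * y = y + 1 := by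
    rw [← sub_eq_zero, sub_eq_add_neg, hneg, ← rY]; abel
  -- `w + w⁻¹ + 1` commutes with both generators
  set w := mkp (V 2) with hwdef
  have hw : mkp X * mkp Y = w := by
    rw [mkp_mul]
    refine mkp_neg _ _ ?_
    show !![0, -1; 1, -1] * !![-1, -1; 1, 0] = -!![1, 0; 2, 1]
    ext i j
    fin_cases i <;> fin_cases j <;> simp <;> ring
  have hy3 : mkp Y * mkp Y * mkp Y = 1 := by rw [mkp_mul, mkp_mul, hY3]; rfl
  have hx3 : mkp X * mkp X * mkp X = 1 := by rw [mkp_mul, mkp_mul, hX3]; rfl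
  have hwinv : w⁻¹ = mkp Y * mkp Y * (mkp X * mkp X) := by
    rw [← hw, _root_.mul_inv_rev, inv_eq_of_mul_eq_one_left hy3, inv_eq_of_mul_eq_one_left hx3]
  set c := ρ w + ρ w⁻¹ + 1 with hcdef
  have hc : c = x * y + y * x + x + y := by
    rw [hcdef, hwinv, ← hw, map_mul, map_mul, map_mul, map_mul, ← hxdef, ← hydef, hxx, hyy]
    rw [show x * y + (y + 1) * (x + 1) + 1 = x * y + y * x + x + y + (1 + 1) by noncomm_ring, two,
      add_zero]
  have cX : x * c = c * x := by
    rw [hc, ← sub_eq_zero, show x * (x * y + y * x + x + y) - (x * y + y * x + x + y) * x =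
      x * x * y + x * y - (y * (x * x) + y * x) by noncomm_ring, hxx,
      show (x + 1) * y + x * y - (y * (x + 1) + y * x) = (x * y + x * y) - (y * x + y * x) by noncomm_ring,
      two, two, sub_zero]
  have cY : y * c = c * y := by
    rw [hc, ← sub_eq_zero, show y * (x * y + y * x + x + y) - (x * y + y * x + x + y) * y =
      y * y * x + y * x - (x * (y * y) + x * y) by noncomm_ring, hyy,
      show (y + 1) * x + y * x - (x * (y + 1) + x * y) = (y * x + y * x) - (x * y + x * y) by noncomm_ring,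
      two, two, sub_zero]
  let C : Subgroup (Matrix.ProjectiveSpecialLinearGroup (Fin 2) F) :=
    { carrier := {g | ρ g * c = c * ρ g}
      one_mem' := by simp
      mul_mem' := fun {g k} hg hk => by
        show ρ (g * k) * c = c * ρ (g * k)
        rw [map_mul, mul_assoc, hk, ← mul_assoc, hg, mul_assoc]
      inv_mem' := fun {g} hg => by
        show ρ g⁻¹ * c = c * ρ g⁻¹
        calc ρ g⁻¹ * c = ρ g⁻¹ * (c * ρ g) * ρ g⁻¹ := by
              rw [mul_assoc, mul_assoc, ← map_mul, mul_inv_cancel, map_one, mul_one]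
          _ = c * ρ g⁻¹ := by
              rw [← hg, ← mul_assoc, ← map_mul, inv_mul_cancel, map_one, one_mul] }
  have hXC : mkp X ∈ C := cX
  have hwC : w ∈ C := hw ▸ mul_mem hXC cY
  -- all elementary matrices lie in this subgroup
  have hVC : ∀ s, mkp (V s) ∈ C := fun s => by
    obtain ⟨k, hk⟩ := ZMod.natCast_zmod_surjective (n := p) ((ZMod.ringEquivOfPrime F hp rfl).symm (s / 2))
    have hs : s = k * 2 := by
      have := congrArg (ZMod.ringEquivOfPrime F hp rfl) hk
      rw [map_natCast, RingEquiv.apply_symm_apply] at this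
      rw [this, div_mul_cancel₀ _ t2]
    have hpow : ∀ n : ℕ, w ^ n = mkp (V (n * 2)) := by
      intro n
      induction n with
      | zero =>
        rw [pow_zero, Nat.cast_zero, zero_mul]
        exact (congrArg mkp (Subtype.ext (by
          show !![1, 0; (0 : F), 1] = 1
          rw [one_fin_two]) : V 0 = 1)).symm
      | succ n ih =>
        rw [pow_succ, ih, hwdef, mkp_mul, hV]
        push_cast
        ring_nf
    rw [hs, ← hpow]
    exact pow_mem hwC k
  have hUC : ∀ s, mkp (U s) ∈ C := fun s => by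
    have e : mkp (U s) = mkp X * mkp X * mkp (V (-s)) * mkp X := by
      rw [mkp_mul, mkp_mul, mkp_mul]
      refine congrArg mkp (Subtype.ext ?_)
      show !![1, s; 0, 1] = !![0, -1; 1, -1] * !![0, -1; 1, -1] * !![1, 0; -s, 1] * !![0, -1; 1, -1]
      ext i j
      fin_cases i <;> fin_cases j <;> simp
    rw [e]
    exact mul_mem (mul_mem (mul_mem hXC hXC) (hVC _)) hXC
  let H : Matrix.SpecialLinearGroup (Fin 2) F :=
    ⟨!![(2 : F)⁻¹, 0; 0, 2], by simp [det_fin_two_of, t2]⟩
  have hHC : mkp H ∈ C := by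
    have e : mkp H = mkp (U 2⁻¹) * mkp (V (-2)) * mkp (U 2⁻¹) *
        (mkp (U (-1)) * mkp (V 1) * mkp (U (-1))) := by
      simp only [mkp_mul]
      refine congrArg mkp (Subtype.ext ?_)
      show !![(2 : F)⁻¹, 0; 0, 2] = !![1, (2 : F)⁻¹; 0, 1] * !![1, 0; -2, 1] * !![1, (2 : F)⁻¹; 0, 1] *
        (!![1, -1; 0, 1] * !![1, 0; 1, 1] * !![1, -1; 0, 1])
      ext i j
      fin_cases i <;> fin_cases j <;> simp [t2]
    rw [e]
    exact mul_mem (mul_mem (mul_mem (hUC _) (hVC _)) (hUC _))
      (mul_mem (mul_mem (hUC _) (hVC _)) (hUC _))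
  have hconj : mkp H * w * (mkp H)⁻¹ = w * w * w * w := by
    rw [mul_inv_eq_iff_eq_mul]
    simp only [hwdef, mkp_mul]
    refine congrArg mkp (Subtype.ext ?_)
    show !![(2 : F)⁻¹, 0; 0, 2] * !![1, 0; 2, 1] =
      !![1, 0; 2, 1] * !![1, 0; 2, 1] * !![1, 0; 2, 1] * !![1, 0; 2, 1] * !![(2 : F)⁻¹, 0; 0, 2]
    ext i j
    fin_cases i <;> fin_cases j <;> simp [t2]
    field_simp
    ring
  -- so `(w⁵ + 1)(w³ + 1) = 0`
  have hc4 : ρ (w * w * w * w) + ρ (w * w * w * w)⁻¹ + 1 = c := by
    rw [← hconj, show (mkp H * w * (mkp H)⁻¹)⁻¹ = mkp H * w⁻¹ * (mkp H)⁻¹ by group]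
    calc _ = ρ (mkp H) * c * ρ (mkp H)⁻¹ := by
          rw [hcdef, mul_add, mul_add, mul_one, add_mul, add_mul]
          simp only [← map_mul, mul_inv_cancel, map_one]
      _ = c := by
          rw [show ρ (mkp H) * c = c * ρ (mkp H) from hHC, mul_assoc, ← map_mul, mul_inv_cancel,
            map_one, mul_one]
  have hprod : (ρ (w ^ 5) + 1) * (ρ (w ^ 3) + 1) = 0 := by
    have h0 : ρ (w ^ 4) + ρ (w ^ 4)⁻¹ + (ρ w + ρ w⁻¹) = 0 := by
      have e : w * w * w * w = w ^ 4 := by simp [pow_succ]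
      rw [e, hcdef, add_left_inj] at hc4
      rw [hc4, two]
    have := congrArg (fun f => ρ (w ^ 4) * f) h0
    simp only [mul_add, mul_zero, ← map_mul] at this
    rw [mul_inv_cancel, map_one, show w ^ 4 * w⁻¹ = w ^ 3 by rw [pow_succ, mul_inv_cancel_right],
      show w ^ 4 * w ^ 4 = w ^ 5 * w ^ 3 by rw [← pow_add, ← pow_add],
      show w ^ 4 * w = w ^ 5 from (pow_succ w 4).symm, map_mul] at this
    rw [← this, add_mul, mul_add, one_mul, mul_one]
    abel
  have hwp : ∀ k : ℕ, Odd (orderOf (w ^ k)) := fun k => by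
    refine (hp.odd_of_ne_two (by omega)).of_dvd_nat (orderOf_dvd_of_pow_eq_one ?_)
    rw [← pow_mul, mul_comm, pow_mul]
    refine (congrArg (fun g => g ^ k) (orderOf_dvd_iff_pow_eq_one.1 ?_)).trans (one_pow k)
    refine orderOf_dvd_of_pow_eq_one ((QuotientGroup.mk_pow _ _ p).symm.trans ?_)
    refine congrArg QuotientGroup.mk (?_ : V 2 ^ p = 1)
    have hpow : ∀ n : ℕ, V 2 ^ n = V (n * 2) := by
      intro n
      induction n with
      | zero =>
        rw [pow_zero, Nat.cast_zero, zero_mul]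
        exact Subtype.ext (by show 1 = !![1, 0; (0 : F), 1]; rw [one_fin_two])
      | succ n ih => rw [pow_succ, ih, hV]; push_cast; ring_nf
    rw [hpow, CharP.cast_eq_zero, zero_mul]
    exact Subtype.ext (by show !![1, 0; (0 : F), 1] = 1; rw [one_fin_two])
  have hw1 : ∀ k : ℕ, (k : F) ≠ 0 → w ^ k ≠ 1 := fun k hk => by
    have hpow : ∀ n : ℕ, w ^ n = mkp (V (n * 2)) := by
      intro n
      induction n with
      | zero =>
        rw [pow_zero, Nat.cast_zero, zero_mul]
        exact (congrArg mkp (Subtype.ext (by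
          show !![1, 0; (0 : F), 1] = 1
          rw [one_fin_two]) : V 0 = 1)).symm
      | succ n ih => rw [pow_succ, ih, hwdef, mkp_mul, hV]; push_cast; ring_nf
    rw [hpow]
    exact hmk1 _ 1 0 (by decide) (by simp [V, hk, t2])
  obtain ⟨v, hv⟩ := exists_ne (0 : M)
  refine hv (hfpf _ (hwp 3) (hw1 3 (by exact_mod_cast t3)) v ?_)
  have h5 : ρ (w ^ 3) v + v = 0 := by
    refine hfpf _ (hwp 5) (hw1 5 (by exact_mod_cast t5)) _ ?_
    have := congrArg (fun f : AddMonoid.End M => f v) hprod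
    change ρ (w ^ 5) (ρ (w ^ 3) v + v) + (ρ (w ^ 3) v + v) = 0 at this
    rw [eq_neg_of_add_eq_zero_left this]
    exact neg_eq_of_add_eq_zero_left (h2 _)
  rw [eq_neg_of_add_eq_zero_left h5]
  exact neg_eq_of_add_eq_zero_left (h2 _)

end PSL

end CfsgLib.Invol.CN
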